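import Cfsg.Agent.H51.Derived.Step
import Cfsg.Agent.H51.Bryu.Bound

/-!
The `2`-length is at most the derived length of a Sylow `2`-subgroup.
-/

set_option autoImplicit false
set_option linter.style.haveILetI false
set_option linter.unusedSectionVars false

namespace H51.Derived

open Cfsg H32.PSeries
open H51.Bryu (frat frat_le frat_sq)
open scoped commutatorElement

universe u v w

set_option maxHeartbeats 800000 in
/-- One step down the upper series lowers the length of the series by one. -/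
theorem exists_step (H : Type u) [Group H] [Finite H] (hH : Group.IsSolvable H)
    {K : Type v} [Field K] [CharP K 2] [IsAlgClosed K]
    {W : Type w} [AddCommGroup W] [Module K W] [FiniteDimensional K W]
    (ρ : H →* Module.End K W) (hρ : Function.Injective ρ) (hO : pCore 2 H = ⊥)
    (hcore : ∀ (r : ℕ) [Fact r.Prime], r ≠ 2 → CoreProp.{v, w, u} r K)
    (P : Sylow 2 H) (d : ℕ) (hd : 2 ≤ d) (hV : vser ρ (P : Subgroup H) d = ⊥)
    [(pPrimePCore 2 H).Normal] :
    ∃ (M : Type) (_ : AddCommGroup M) (_ : Module (AlgebraicClosure (ZMod 2)) M)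
      (_ : FiniteDimensional (AlgebraicClosure (ZMod 2)) M)
      (σ : H ⧸ pPrimePCore 2 H →* Module.End (AlgebraicClosure (ZMod 2)) M)
      (Q : Sylow 2 (H ⧸ pPrimePCore 2 H)),
      Function.Injective σ ∧ vser σ (Q : Subgroup (H ⧸ pPrimePCore 2 H)) (d - 1) = ⊥ := by
  classical
  haveI := Fact.mk Nat.prime_two
  haveI := hH
  set K₂ := pPrimePCore 2 H with hK₂
  set R := pPrimeCore 2 H with hR
  haveI : R.Normal := H10.pPrimeCore_normal
  set S₂ := (P : Subgroup H) ⊓ K₂ with hS₂
  set N₀ := Subgroup.normalizer (S₂ : Set H) with hN₀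
  have hfr : N₀ ⊔ K₂ = ⊤ := H32.frattini_inf P K₂
  have hPN : (P : Subgroup H) ≤ N₀ := H32.sylow_le_normalizer_inf P K₂
  set T := S₂.subgroupOf N₀ with hT'
  haveI : T.Normal := Subgroup.normal_in_normalizer
  have hS₂p : IsPGroup 2 S₂ := P.isPGroup'.to_le inf_le_left
  set π₀ := QuotientGroup.mk' R
  let f : K₂ →* pCore 2 (H ⧸ R) := (π₀.comp K₂.subtype).codRestrict _ fun k => k.2
  have hf : Function.Surjective f := fun y => by
    obtain ⟨k, hk⟩ := QuotientGroup.mk'_surjective R (y : H ⧸ R)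
    exact ⟨⟨k, show π₀ k ∈ pCore 2 (H ⧸ R) from hk ▸ y.2⟩, Subtype.ext hk⟩
  have honto : ∀ x ∈ pCore 2 (H ⧸ R), ∃ s ∈ S₂, π₀ s = x := by
    intro x hx
    have htop := H28.TwoLength.sylow_eq_top_of_isPGroup H10.pCore_isPGroup
      ((H32.sylowInf P K₂).mapSurjective hf)
    have hmem : (⟨x, hx⟩ : pCore 2 (H ⧸ R)) ∈
        (((H32.sylowInf P K₂).mapSurjective hf : Sylow 2 (pCore 2 (H ⧸ R))) :
          Subgroup (pCore 2 (H ⧸ R))) := by rw [htop]; trivial
    obtain ⟨s, hs, hsx⟩ := hmem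
    exact ⟨s, ⟨hs, s.2⟩, congrArg Subtype.val hsx⟩
  have hcentS : Subgroup.centralizer (S₂ : Set H) ≤ K₂ := by
    intro g hg
    refine H10.centralizer_pCore_le (H10.isPSolvable_of_isSolvable : IsPSolvable 2 (H ⧸ R))
      H10.pPrimeCore_quotient_pPrimeCore ?_
    rw [Subgroup.mem_centralizer_iff]
    intro x hx
    obtain ⟨s, hs, rfl⟩ := honto x hx
    rw [← map_mul, ← map_mul, Subgroup.mem_centralizer_iff.mp hg s hs]
  let S : Subgroup N₀ := (P : Subgroup H).subgroupOf N₀
  have hSP : S.map N₀.subtype = (P : Subgroup H) := Subgroup.map_subgroupOf_eq_of_le hPN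
  have hVS : vser (ρ.comp N₀.subtype) S d = ⊥ := by rw [vser_comp, hSP, hV]
  obtain ⟨M, _, _, _, ρ', hρT, hρC, hρodd, hρser⟩ := exists_layer_rep hH ρ hρ hO hcore N₀.subtype
    N₀.subtype_injective T S (fun x hx => hx.1) P.isPGroup'.comap_subtype d hd hVS
  let φ : N₀ →* H ⧸ K₂ := (QuotientGroup.mk' K₂).comp N₀.subtype
  have hφ : Function.Surjective φ := fun y => by
    obtain ⟨g, rfl⟩ := QuotientGroup.mk'_surjective K₂ y
    obtain ⟨k, hk, x, hx, rfl⟩ : ∃ k ∈ K₂, ∃ x ∈ N₀, k * x = g :=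
      Subgroup.mem_sup_of_normal_left.mp (by rw [sup_comm, hfr]; trivial)
    refine ⟨⟨x, hx⟩, ?_⟩
    show QuotientGroup.mk' K₂ x = QuotientGroup.mk' K₂ (k * x)
    rw [map_mul, show QuotientGroup.mk' K₂ k = 1 from (QuotientGroup.eq_one_iff k).mpr hk, one_mul]
  have hle : φ.ker ≤ ρ'.ker := by
    intro g hg
    have hgK : (g : H) ∈ K₂ := (QuotientGroup.eq_one_iff _).mp hg
    obtain ⟨s, hs, hsg⟩ := honto (π₀ g) hgK
    have hsN : s ∈ N₀ := Subgroup.le_normalizer hs
    set y : N₀ := (⟨s, hsN⟩ : N₀)⁻¹ * g with hy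
    have hyR : (y : H) ∈ R := by
      rw [← QuotientGroup.eq_one_iff]
      show π₀ (s⁻¹ * (g : H)) = 1
      rw [map_mul, map_inv, hsg, inv_mul_cancel]
    have hyc : y ∈ Subgroup.centralizer (T : Set N₀) := by
      rw [Subgroup.mem_centralizer_iff]
      intro x hx
      apply Subtype.ext
      have h1 : ⁅(y : H), (x : H)⁆ ∈ R ⊓ S₂ := by
        refine ⟨?_, ?_⟩
        · rw [commutatorElement_def, show (y : H) * x * (y : H)⁻¹ * (x : H)⁻¹ =
            y * (x * (y : H)⁻¹ * (x : H)⁻¹) by group]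
          exact mul_mem hyR ((inferInstance : R.Normal).conj_mem _ (inv_mem hyR) _)
        · show _ ∈ S₂
          rw [commutatorElement_def]
          exact mul_mem (H28.TwoLength.conj_mem y.2 (show (x : H) ∈ S₂ from hx))
            (inv_mem (show (x : H) ∈ S₂ from hx))
      have h2 : ⁅(y : H), (x : H)⁆ = 1 := by
        obtain ⟨l, hl⟩ := hS₂p ⟨_, h1.2⟩
        refine orderOf_eq_one_iff.mp (Nat.eq_one_of_dvd_coprimes
          (((H10.pPrimeCore_coprime (G := H) (p := 2)).coprime_dvd_left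
            (Subgroup.orderOf_dvd_natCard R h1.1)).pow_right l) dvd_rfl
          (orderOf_dvd_of_pow_eq_one (congrArg Subtype.val hl)))
      exact (commutatorElement_eq_one_iff_commute.mp h2).eq.symm
    rw [MonoidHom.mem_ker, show g = (⟨s, hsN⟩ : N₀) * y by rw [hy, mul_inv_cancel_left], map_mul,
      hρT _ (show (⟨s, hsN⟩ : N₀) ∈ T from hs), hρC y hyc, one_mul]
  have hle' : φ.ker ≤ ρ'.toHomUnits.ker := fun g hg => by
    rw [MonoidHom.mem_ker, Units.ext_iff]
    exact hle hg
  let σ := (Units.coeHom _).comp (MonoidHom.liftOfSurjective φ hφ ⟨ρ'.toHomUnits, hle'⟩)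
  have hσ : ∀ g, σ (φ g) = ρ' g := fun g => by
    show Units.val (MonoidHom.liftOfSurjective φ hφ ⟨ρ'.toHomUnits, hle'⟩ (φ g)) = _
    rw [show MonoidHom.liftOfSurjective φ hφ ⟨ρ'.toHomUnits, hle'⟩ (φ g) = ρ'.toHomUnits g from
      MonoidHom.liftOfRightInverse_comp_apply φ _ (Function.rightInverse_surjInv hφ)
        ⟨ρ'.toHomUnits, hle'⟩ g]
    rfl
  refine ⟨M, inferInstance, inferInstance, inferInstance, σ,
    P.mapSurjective (QuotientGroup.mk'_surjective K₂), ?_, ?_⟩
  · rw [← MonoidHom.ker_eq_bot_iff, eq_bot_iff]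
    rw [← H28.TwoLength.pCore_quotient_pPrimePCore (G := H)]
    refine H10.le_pCore inferInstance ?_
    rintro ⟨x, hx⟩
    obtain ⟨g, rfl⟩ := hφ x
    obtain ⟨c, o, ho, hord⟩ := Nat.exists_eq_two_pow_mul_odd (orderOf_pos g).ne'
    refine ⟨c, Subtype.ext ?_⟩
    rw [SubmonoidClass.coe_pow, Subgroup.coe_one]
    show φ g ^ 2 ^ c = 1
    rw [← map_pow]
    refine (QuotientGroup.eq_one_iff _).mpr (hcentS ?_)
    have hg1 : ρ' (g ^ 2 ^ c) = 1 := by
      rw [map_pow, ← hσ, show σ (φ g) = 1 from hx, one_pow]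
    have hodd : Odd (orderOf (g ^ 2 ^ c)) := ho.of_dvd_nat (orderOf_dvd_of_pow_eq_one (by
      rw [← pow_mul, ← hord, pow_orderOf_eq_one]))
    have hc := hρodd _ hg1 hodd
    rw [Subgroup.mem_centralizer_iff] at hc ⊢
    exact fun s hs => congrArg Subtype.val (hc ⟨s, Subgroup.le_normalizer hs⟩ hs)
  · have hco : σ.comp φ = ρ' := MonoidHom.ext hσ
    rw [Sylow.coe_mapSurjective, ← hSP, Subgroup.map_map, ← vser_comp, hco, hρser]

/-- The kernel of the first layer has `2`-length at most one. -/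
theorem pLengthLE_one_pPrimePCore (H : Type u) [Group H] [Finite H] :
    PLengthLE 2 1 (pPrimePCore 2 H) := by
  haveI := Fact.mk Nat.prime_two
  set K₂ := pPrimePCore 2 H
  set R := (pPrimeCore 2 H).subgroupOf K₂ with hR
  haveI : (pPrimeCore 2 H).Normal := H10.pPrimeCore_normal
  haveI : R.Normal := Subgroup.Normal.comap inferInstance _
  have hR0 : PLengthLE 2 0 R := pLengthLE_zero_of_coprime (by
    refine Nat.Coprime.coprime_dvd_left ?_ (H10.pPrimeCore_coprime (G := H) (p := 2))
    exact Subgroup.card_comap_dvd_of_injective _ _ K₂.subtype_injective)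
  have hR1 : PLengthLE 2 1 (K₂ ⧸ R) := pLengthLE_one_of_isPGroup (by
    intro x
    obtain ⟨k, rfl⟩ := QuotientGroup.mk'_surjective R x
    obtain ⟨i, hi⟩ := H10.pCore_isPGroup (G := H ⧸ pPrimeCore 2 H) (p := 2)
      ⟨QuotientGroup.mk' (pPrimeCore 2 H) (k : H), k.2⟩
    refine ⟨i, ?_⟩
    rw [← map_pow]
    refine (QuotientGroup.eq_one_iff _).mpr ?_
    rw [hR, Subgroup.mem_subgroupOf, SubmonoidClass.coe_pow, ← QuotientGroup.eq_one_iff]
    exact congrArg Subtype.val hi)
  exact pLengthLE_add R hR0 hR1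

/-- A group whose Sylow `2`-subgroup is trivial has length zero. -/
theorem pLengthLE_zero_of_sylow_bot {H : Type u} [Group H] [Finite H] (P : Sylow 2 H)
    (h : (P : Subgroup H) = ⊥) : PLengthLE 2 0 H := by
  haveI := Fact.mk Nat.prime_two
  refine pLengthLE_zero_of_coprime ?_
  rw [Nat.coprime_comm, Nat.prime_two.coprime_iff_not_dvd]
  intro h2
  have h3 := P.dvd_card_of_dvd_card h2
  rw [h, Subgroup.card_bot] at h3
  omega

/-- A solvable linear group without `2`-core whose series has length `d`. -/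
theorem linear_length_le
    (hcore : ∀ (r : ℕ) [Fact r.Prime], r ≠ 2 →
      CoreProp.{0, 0, u} r (AlgebraicClosure (ZMod 2))) (d : ℕ) :
    ∀ (H : Type u) [Group H] [Finite H], Group.IsSolvable H →
    ∀ (W : Type) [AddCommGroup W] [Module (AlgebraicClosure (ZMod 2)) W]
      [FiniteDimensional (AlgebraicClosure (ZMod 2)) W]
      (ρ : H →* Module.End (AlgebraicClosure (ZMod 2)) W), Function.Injective ρ → pCore 2 H = ⊥ →
    ∀ P : Sylow 2 H, vser ρ (P : Subgroup H) d = ⊥ → PLengthLE 2 (d - 1) H := by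
  classical
  haveI : Fact (Nat.Prime 2) := ⟨Nat.prime_two⟩
  induction d using Nat.strong_induction_on with
  | _ d ih =>
    intro H _ _ hH W _ _ _ ρ hρ hO P hV
    rcases Nat.lt_or_ge d 2 with hd | hd
    · have hP : (P : Subgroup H) = ⊥ := by
        rw [eq_bot_iff]
        intro s hs
        rw [Subgroup.mem_bot]
        apply hρ
        rw [map_one]
        refine LinearMap.ext fun x => ?_
        rcases Nat.lt_or_ge d 1 with hd0 | hd1
        · have hx : ∀ y : W, y = 0 := fun y => by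
            have : y ∈ vser ρ (P : Subgroup H) d := by
              rw [show d = 0 by omega]; trivial
            rwa [hV, Submodule.mem_bot] at this
          exact (hx _).trans (hx _).symm
        · have hm : ρ s x - x ∈ vser ρ (P : Subgroup H) d := by
            rw [show d = 0 + 1 by omega]
            exact Submodule.mem_iSup_of_mem s (Submodule.mem_iSup_of_mem hs ⟨x, trivial, rfl⟩)
          rw [hV, Submodule.mem_bot, sub_eq_zero] at hm
          exact hm
      exact pLengthLE_mono (pLengthLE_zero_of_sylow_bot P hP) (Nat.zero_le _)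
    haveI := hH
    haveI hK₂n : (pPrimePCore 2 H).Normal := Subgroup.Normal.comap inferInstance _
    obtain ⟨M, _, _, _, σ, Q, hσ, hQ⟩ := exists_step H hH ρ hρ hO hcore P d hd hV
    have hq : PLengthLE 2 (d - 1 - 1) (H ⧸ pPrimePCore 2 H) :=
      ih (d - 1) (by omega) (H ⧸ pPrimePCore 2 H) inferInstance M σ hσ
        H28.TwoLength.pCore_quotient_pPrimePCore Q hQ
    exact pLengthLE_mono (pLengthLE_add _ (pLengthLE_one_pPrimePCore H) hq) (by omega)

/-- A solvable group whose Sylow `2`-subgroups have derived length at most `d`. -/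
theorem length_le
    (hcore : ∀ (r : ℕ) [Fact r.Prime], r ≠ 2 →
      CoreProp.{0, 0, u} r (AlgebraicClosure (ZMod 2))) (d : ℕ) (G : Type u) [Group G] [Finite G]
    (hG : Group.IsSolvable G) (P : Sylow 2 G)
    (hP : derivedSeries (P : Subgroup G) d = ⊥) : PLengthLE 2 d G := by
  classical
  haveI := Fact.mk Nat.prime_two
  haveI := hG
  have hdser : dser (P : Subgroup G) d = ⊥ := by rw [dser_eq_map, hP, Subgroup.map_bot]
  rcases Nat.eq_zero_or_pos d with rfl | hd
  · exact pLengthLE_zero_of_sylow_bot P hdser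
  haveI : (pPrimeCore 2 G).Normal := H10.pPrimeCore_normal
  have h0 : PLengthLE 2 0 (pPrimeCore 2 G) :=
    pLengthLE_zero_of_coprime H10.pPrimeCore_coprime
  suffices hq : PLengthLE 2 d (G ⧸ pPrimeCore 2 G) by
    exact pLengthLE_mono (pLengthLE_add _ h0 hq) (by omega)
  set G₁ := G ⧸ pPrimeCore 2 G
  let P₁ : Sylow 2 G₁ := P.mapSurjective (QuotientGroup.mk'_surjective (pPrimeCore 2 G))
  have hdser₁ : dser (P₁ : Subgroup G₁) d = ⊥ := by
    rw [show (P₁ : Subgroup G₁) = (P : Subgroup G).map (QuotientGroup.mk' (pPrimeCore 2 G)) from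
      Sylow.coe_mapSurjective _ _, ← dser_map, hdser, Subgroup.map_bot]
  have hO1 : pPrimeCore 2 G₁ = ⊥ := H10.pPrimeCore_quotient_pPrimeCore
  have hs : IsPSolvable 2 G₁ := H10.isPSolvable_of_isSolvable
  set U := pCore 2 G₁ with hU
  haveI : U.Normal := H10.pCore_normal
  have hUp : IsPGroup 2 U := H10.pCore_isPGroup
  have hUP : U ≤ (P₁ : Subgroup G₁) := H10.pCore_le_sylow P₁
  have hcU : Subgroup.centralizer (U : Set G₁) ≤ U := H10.centralizer_pCore_le hs hO1
  haveI : (frat U).Normal := H10.map_frattini_subtype_normal inferInstance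
  have hsq : ∀ t ∈ U, t ^ 2 ∈ frat U := fun t ht => frat_sq hUp ht
  obtain ⟨n, σ, hσker, hσser⟩ := exists_section_module U (frat U) (frat_le U) hsq
  have hser : vser σ (P₁ : Subgroup G₁) d = ⊥ := by
    rw [show d = d - 1 + 1 by omega]
    refine hσser U P₁ inferInstance le_rfl le_sup_left hUP (d - 1) fun y hy a ha => ?_
    have h : ⁅a, y⁆ ∈ dser (P₁ : Subgroup G₁) (d - 1 + 1) :=
      Subgroup.commutator_mem_commutator ha hy.2
    rw [show d - 1 + 1 = d by omega, hdser₁, Subgroup.mem_bot] at h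
    rw [h]
    exact one_mem _
  have hker : σ.ker = U := by
    refine le_antisymm (H10.le_pCore inferInstance ?_) fun g hg => (hσker g).mpr fun y hy => ?_
    · intro x
      obtain ⟨c, o, ho, hord⟩ := Nat.exists_eq_two_pow_mul_odd (orderOf_pos (x : G₁)).ne'
      refine ⟨c, Subtype.ext ?_⟩
      rw [SubmonoidClass.coe_pow, Subgroup.coe_one]
      set y := (x : G₁) ^ 2 ^ c with hy
      have hyo : orderOf y ∣ o := orderOf_dvd_of_pow_eq_one (by
        rw [hy, ← pow_mul, ← hord, pow_orderOf_eq_one])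
      have hodd : Odd (orderOf y) := ho.of_dvd_nat hyo
      have hyker : y ∈ σ.ker := pow_mem x.2 _
      have hyc : y ∈ Subgroup.centralizer (U : Set G₁) := by
        obtain ⟨t, ht⟩ := (hUp.to_subgroup (frattini U)).exists_card_eq
        refine H1.le_centralizer_of_frattini ?_ ?_ (fun z hz k hk => ?_) (Subgroup.mem_zpowers y)
        · rw [Subgroup.normalizer_eq_top]; exact le_top
        · rw [Nat.card_zpowers, ht]
          exact (Nat.coprime_two_right.mpr hodd).pow_right t
        · have hzk : z ∈ σ.ker := by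
            obtain ⟨i, rfl⟩ := Subgroup.mem_zpowers_iff.mp hz
            exact zpow_mem hyker i
          have h1 := (hσker z).mp hzk k hk
          rwa [commutatorElement_def] at h1
      obtain ⟨t, ht⟩ := hUp ⟨y, hcU hyc⟩
      exact orderOf_eq_one_iff.mp (Nat.eq_one_of_dvd_coprimes
        ((Nat.coprime_two_right.mpr hodd).pow_right t) dvd_rfl
        (orderOf_dvd_of_pow_eq_one (congrArg Subtype.val ht)))
    · exact ⟨⁅(⟨g, hg⟩ : U), (⟨y, hy⟩ : U)⁆, H6.commutator_le_frattini hUp
        (Subgroup.commutator_mem_commutator trivial trivial), rfl⟩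
  let ρH := QuotientGroup.lift U σ hker.ge
  have hρH : Function.Injective ρH := by
    rw [← MonoidHom.ker_eq_bot_iff, eq_bot_iff]
    intro x hx
    obtain ⟨g, rfl⟩ := QuotientGroup.mk'_surjective U x
    have hg : g ∈ σ.ker := hx
    rw [hker] at hg
    exact Subgroup.mem_bot.mpr ((QuotientGroup.eq_one_iff g).mpr hg)
  have hOH : pCore 2 (G₁ ⧸ U) = ⊥ := by
    rw [H1.pCore_quotient 2 U H10.pCore_isPGroup, ← hU, Subgroup.map_eq_bot_iff,
      QuotientGroup.ker_mk']
  have hH := linear_length_le hcore d (G₁ ⧸ U) inferInstance _ ρH hρH hOH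
    (P₁.mapSurjective (QuotientGroup.mk'_surjective U)) (by
      rw [Sylow.coe_mapSurjective, ← vser_comp]
      exact hser)
  exact pLengthLE_mono
    (pLengthLE_add U (pLengthLE_one_of_isPGroup H10.pCore_isPGroup) hH) (by omega)

end H51.Derived
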