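import Cfsg.Agent.H51.Bryu.Leaf

/-!
The derived series of a `2`-subgroup with its series in a module.
-/

set_option autoImplicit false
set_option linter.style.haveILetI false

namespace H51.Derived

open scoped commutatorElement

universe u v w

/-- The derived series of a subgroup, inside the group. -/
def dser {G : Type u} [Group G] (S : Subgroup G) : ℕ → Subgroup G
  | 0 => S
  | i + 1 => ⁅dser S i, dser S i⁆

/-- The series `V₀ = V`, `Vᵢ₊₁ = [Vᵢ, S⁽ⁱ⁾]`. -/
def vser {G : Type u} [Group G] {K : Type v} [Field K] {W : Type w} [AddCommGroup W] [Module K W]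
    (ρ : G →* Module.End K W) (S : Subgroup G) : ℕ → Submodule K W
  | 0 => ⊤
  | i + 1 => ⨆ s ∈ dser S i, (vser ρ S i).map (ρ s - 1)

end H51.Derived
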