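import Cfsg.Agent.H28.TwoLength.Main
import Cfsg.Agent.H89.CoprimeSmall
import Cfsg.Agent.H6.AutPGroup

/-!
Detection of `2`-elements on the systems of eigenvalues of critical subgroups.
-/

set_option autoImplicit false
set_option linter.style.haveILetI false
set_option linter.unusedSectionVars false

namespace H51.Derived

open Cfsg
open scoped commutatorElement

universe u v w

variable {H : Type u} [Group H] [Finite H]
variable {K : Type v} [Field K] [CharP K 2] [IsAlgClosed K]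
variable {W : Type w} [AddCommGroup W] [Module K W] [FiniteDimensional K W]

/-- A `2`-element trivial on every symplectic section is trivial. -/
theorem eq_one_of_systems (hH : Group.IsSolvable H) (ρ : H →* Module.End K W)
    (hρ : Function.Injective ρ) (hO : pCore 2 H = ⊥) {t : H} {n : ℕ} (ht2 : t ^ 2 ^ n = 1)
    (hsys : ∀ (r : ℕ) [Fact r.Prime] (C Z : Subgroup H) [C.Normal] [Z.Normal], r ≠ 2 →
      IsPGroup r C → (∀ x ∈ C, ∀ y ∈ C, ⁅x, y⁆ ∈ Z) → Z ≤ C →
      Z ≤ Subgroup.centralizer (C : Set H) → (∀ x ∈ C, x ^ r ∈ Z) →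
      ∀ (μ : H → K) (v : W), v ≠ 0 → (∀ c ∈ Z, ρ c v = μ c • v) →
        (∀ c ∈ Z, μ (t * c * t⁻¹) = μ c) ∧ ∀ x ∈ C, ∀ y ∈ C, μ ⁅x⁻¹ * (t * x * t⁻¹), y⁆ = 1) :
    t = 1 := by
  classical
  haveI := hH
  refine H28.TwoLength.eq_one_of_centralizes_cores inferInstance hO ht2 fun r hr => ?_
  haveI := Fact.mk hr
  rcases eq_or_ne r 2 with rfl | hr2
  · rw [hO, Subgroup.mem_centralizer_iff]
    intro x hx
    rw [Subgroup.coe_bot, Set.mem_singleton_iff] at hx
    rw [hx, one_mul, mul_one]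
  set O := pCore r H with hO'
  haveI : O.Normal := by rw [hO']; exact H10.pCore_normal
  have hOp : IsPGroup r O := H10.pCore_isPGroup
  obtain ⟨K₀, hK₀, hK₀c, hK₀comm, hK₀pow⟩ := H89.exists_critical hOp
  haveI := hK₀
  set C := K₀.map O.subtype with hC
  haveI hCn : C.Normal := by rw [hC]; infer_instance
  set Z := C ⊓ Subgroup.centralizer (C : Set H) with hZ
  haveI : (Subgroup.centralizer (C : Set H)).Normal := Subgroup.normal_centralizer
  haveI hZn : Z.Normal := by rw [hZ]; infer_instance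
  have hCp : IsPGroup r C := hOp.to_le (Subgroup.map_subtype_le _)
  have hlift : ∀ y : O, y ∈ K₀ ⊓ Subgroup.centralizer (K₀ : Set O) → (y : H) ∈ Z := fun y hy =>
    ⟨⟨y, hy.1, rfl⟩, Subgroup.mem_centralizer_iff.mpr fun _ ⟨z, hz, hzx⟩ => by
      subst hzx
      exact congrArg Subtype.val (Subgroup.mem_centralizer_iff.mp hy.2 z hz)⟩
  have hcom : ∀ x ∈ C, ∀ y ∈ C, ⁅x, y⁆ ∈ Z := by
    rintro _ ⟨x, hx, rfl⟩ _ ⟨y, -, rfl⟩
    rw [← map_commutatorElement]
    exact hlift _ (hK₀comm x hx y)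
  have hpow : ∀ x ∈ C, x ^ r ∈ Z := by
    rintro _ ⟨x, hx, rfl⟩
    rw [← map_pow]
    exact hlift _ (hK₀pow x hx)
  have hZC : Z ≤ C := inf_le_left
  have hZc : Z ≤ Subgroup.centralizer (C : Set H) := inf_le_right
  have hZcomm : ∀ a ∈ Z, ∀ b ∈ Z, Commute a b := fun a ha b hb =>
    Subgroup.mem_centralizer_iff.mp (hZc hb) a (hZC ha)
  have hodd := H28.TwoLength.odd_card hr2 (hCp.to_le hZC)
  have hS := hsys r C Z hr2 hCp hcom hZC hZc hpow
  have hμmul : ∀ (μ : H → K) (v : W), v ≠ 0 → (∀ c ∈ Z, ρ c v = μ c • v) →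
      μ 1 = 1 ∧ ∀ a ∈ Z, ∀ b ∈ Z, μ (a * b) = μ a * μ b := fun μ v hv hμ => by
    refine ⟨?_, fun a ha b hb => ?_⟩ <;> apply smul_left_injective K hv
    · show μ 1 • v = (1 : K) • v
      rw [← hμ 1 (one_mem Z), map_one, one_smul]; rfl
    · show μ (a * b) • v = (μ a * μ b) • v
      rw [← hμ _ (mul_mem ha hb), map_mul, Module.End.mul_apply, hμ b hb, map_smul, hμ a ha,
        smul_smul, mul_comm]
  have htZ : ∀ c ∈ Z, t * c * t⁻¹ = c := by
    intro c hc
    by_contra hne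
    have hc' : t * c * t⁻¹ ∈ Z := hZn.conj_mem c hc _
    obtain ⟨μ, v, hv, hμ, hμne⟩ := H28.TwoLength.exists_system ρ hρ Z hZcomm hodd
      (mul_mem hc' (inv_mem hc)) (fun h => hne (mul_inv_eq_one.mp h))
    obtain ⟨h1, hmul⟩ := hμmul μ v hv hμ
    apply hμne
    rw [hmul _ hc' _ (inv_mem hc), (hS μ v hv hμ).1 c hc, ← hmul _ hc _ (inv_mem hc),
      mul_inv_cancel, h1]
  have htC : ∀ x ∈ C, t * x * t⁻¹ = x := by
    intro x hx
    set d := x⁻¹ * (t * x * t⁻¹) with hd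
    have hdC : d ∈ C := mul_mem (inv_mem hx) (hCn.conj_mem x hx _)
    have hdZ : d ∈ Z := ⟨hdC, Subgroup.mem_centralizer_iff.mpr fun y hy => by
      by_contra hne
      obtain ⟨μ, v, hv, hμ, hμne⟩ := H28.TwoLength.exists_system ρ hρ Z hZcomm hodd
        (hcom d hdC y hy) (fun h => hne (commutatorElement_eq_one_iff_commute.mp h).eq.symm)
      exact hμne ((hS μ v hv hμ).2 x hx y hy)⟩
    have hd1 : d = 1 := by
      refine H28.TwoLength.disp_eq_one (n := t) (c := x) (by rw [hd]; group) (htZ d hdZ) ?_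
      obtain ⟨l, hl⟩ := hCp ⟨d, hdC⟩
      refine Nat.Coprime.coprime_dvd_left (orderOf_dvd_of_pow_eq_one ht2)
        (Nat.Coprime.coprime_dvd_right (orderOf_dvd_of_pow_eq_one (congrArg Subtype.val hl)) ?_)
      exact ((Nat.coprime_primes Nat.prime_two hr).mpr (Ne.symm hr2)).pow n l
    rw [hd, inv_mul_eq_one] at hd1
    exact hd1.symm
  let a : MulAut O := MulAut.conjNormal t
  have ha : a = 1 := by
    refine H6.eq_one_of_fixes_self_centralizing hOp hK₀c a ?_ fun x hx =>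
      Subtype.ext (htC _ ⟨x, hx, rfl⟩)
    refine Nat.Coprime.coprime_dvd_left (orderOf_dvd_of_pow_eq_one (n := 2 ^ n) ?_)
      (((Nat.coprime_primes Nat.prime_two hr).mpr (Ne.symm hr2)).pow_left n)
    rw [← map_pow, ht2, map_one]
  rw [Subgroup.mem_centralizer_iff]
  intro x hx
  have h := congrArg Subtype.val (MulEquiv.ext_iff.mp ha ⟨x, hx⟩)
  have h' : t * x * t⁻¹ = x := h
  exact (mul_inv_eq_iff_eq_mul.mp h').symm

end H51.Derived
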