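import Cfsg.Agent.H51.Derived.Defs
import Cfsg.Agent.H28.TwoLength.Setting
import Cfsg.Agent.H12.DL.Defs
import Mathlib.LinearAlgebra.Matrix.ToLin
import Mathlib.FieldTheory.IsAlgClosed.AlgebraicClosure

/-!
An elementary section of a normal `2`-subgroup as a module, with the series in it.
-/

set_option autoImplicit false
set_option linter.style.haveILetI false
set_option linter.unusedSectionVars false

namespace H51.Derived

open scoped commutatorElement

universe u v w

variable {G : Type u} [Group G]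

theorem dser_map {H : Type v} [Group H] (f : G →* H) (S : Subgroup G) (i : ℕ) :
    (dser S i).map f = dser (S.map f) i := by
  induction i with
  | zero => rfl
  | succ i ih =>
    show (⁅dser S i, dser S i⁆ : Subgroup G).map f = ⁅dser (S.map f) i, dser (S.map f) i⁆
    rw [Subgroup.map_commutator, ih]

theorem dser_le (S : Subgroup G) : ∀ i, dser S i ≤ S
  | 0 => le_rfl
  | i + 1 => (Subgroup.commutator_le.mpr fun x hx y hy => by
      rw [commutatorElement_def]
      exact mul_mem (mul_mem (mul_mem hx hy) (inv_mem hx)) (inv_mem hy)).trans (dser_le S i)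

theorem vser_comp {H : Type v} [Group H] {K : Type w} [Field K] {W : Type*} [AddCommGroup W]
    [Module K W] (ρ : H →* Module.End K W) (f : G →* H) (S : Subgroup G) (i : ℕ) :
    vser (ρ.comp f) S i = vser ρ (S.map f) i := by
  induction i with
  | zero => rfl
  | succ i ih =>
    show (⨆ s ∈ dser S i, (vser (ρ.comp f) S i).map (ρ.comp f s - 1)) =
      ⨆ s ∈ dser (S.map f) i, (vser ρ (S.map f) i).map (ρ s - 1)
    rw [← dser_map, ih]
    refine le_antisymm (iSup₂_le fun s hs =>
      le_iSup₂ (f := fun t (_ : t ∈ (dser S i).map f) => (vser ρ (S.map f) i).map (ρ t - 1))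
        (f s) (Subgroup.mem_map_of_mem f hs)) (iSup₂_le ?_)
    rintro _ ⟨s, hs, rfl⟩
    exact le_iSup₂ (f := fun t (_ : t ∈ dser S i) => (vser ρ (S.map f) i).map (ρ.comp f t - 1))
      s hs

/-- Componentwise vanishing of the series. -/
theorem vser_pi {K : Type v} [Field K] {ι : Type*} {M : ι → Type w} [∀ i, AddCommGroup (M i)]
    [∀ i, Module K (M i)] (ρ : ∀ i, G →* Module.End K (M i))
    (τ : G →* Module.End K (∀ i, M i)) (hτ : ∀ g x i, τ g x i = ρ i g (x i)) (S : Subgroup G)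
    (k : ℕ) : vser τ S k ≤ Submodule.pi Set.univ fun i => vser (ρ i) S k := by
  induction k with
  | zero => exact fun x _ i _ => trivial
  | succ k ih =>
    refine iSup₂_le fun s hs => ?_
    rintro _ ⟨x, hx, rfl⟩ i -
    refine Submodule.mem_iSup_of_mem s (Submodule.mem_iSup_of_mem hs ⟨x i, ih hx i trivial, ?_⟩)
    rw [LinearMap.sub_apply, LinearMap.sub_apply, Pi.sub_apply, hτ]
    rfl

variable [Finite G]

/-- An elementary section as a module over the algebraic closure, with its series. -/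
theorem exists_section_module (Y X : Subgroup G) [Y.Normal] [X.Normal] (hXY : X ≤ Y)
    (hsq : ∀ t ∈ Y, t ^ 2 ∈ X) :
    ∃ (n : ℕ) (σ : G →* Module.End (AlgebraicClosure (ZMod 2))
        (Fin n → AlgebraicClosure (ZMod 2))),
      (∀ g, σ g = 1 ↔ ∀ y ∈ Y, ⁅g, y⁆ ∈ X) ∧
      ∀ (W S : Subgroup G), W.Normal → W ≤ Y → Y ≤ W ⊔ X → W ≤ S → ∀ e : ℕ,
        (∀ y ∈ W ⊓ dser S e, ∀ a ∈ dser S e, ⁅a, y⁆ ∈ X) → vser σ S (e + 1) = ⊥ := by
  classical
  haveI : Fact (Nat.Prime 2) := ⟨Nat.prime_two⟩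
  have hcom : ∀ a ∈ Y, ∀ b ∈ Y, ⁅a, b⁆ ∈ X := by
    intro a ha b hb
    rw [commutatorElement_def, show a * b * a⁻¹ * b⁻¹ =
      (a * b) ^ 2 * ((b⁻¹ * a⁻¹ ^ 2 * b⁻¹⁻¹) * (b⁻¹ ^ 2)) by simp only [sq]; group]
    exact mul_mem (hsq _ (mul_mem ha hb)) (mul_mem
      ((inferInstance : X.Normal).conj_mem _ (hsq _ (inv_mem ha)) _) (hsq _ (inv_mem hb)))
  obtain ⟨n, π, d, hsurj, hdmul, hd0, hact⟩ := H28.TwoLength.exists_section Y X (⊤ : Subgroup G)
    (r := 2) hcom hXY hsq (fun g _ => by rw [Subgroup.normalizer_eq_top]; trivial)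
    (fun g _ => by rw [Subgroup.normalizer_eq_top]; trivial)
  let c := algebraMap (ZMod 2) (AlgebraicClosure (ZMod 2))
  let E : Module.End (ZMod 2) (Fin n → ZMod 2) →*
      Module.End (AlgebraicClosure (ZMod 2)) (Fin n → AlgebraicClosure (ZMod 2)) :=
    ((Matrix.toLinAlgEquiv' : Matrix (Fin n) (Fin n) (AlgebraicClosure (ZMod 2)) ≃ₐ[_] _
      ).toRingEquiv.toRingHom.comp c.mapMatrix).toMonoidHom.comp
      (LinearMap.toMatrixAlgEquiv' : Module.End (ZMod 2) (Fin n → ZMod 2) ≃ₐ[ZMod 2] _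
      ).toRingEquiv.toRingHom.toMonoidHom
  let σ := E.comp (π.comp (Subgroup.topEquiv (G := G)).symm.toMonoidHom)
  let ψ : Y → Fin n → AlgebraicClosure (ZMod 2) := fun y i => c (d y i)
  have hint : ∀ (g : G) (y : Y),
      σ g (ψ y) = ψ ⟨g * y * g⁻¹, (inferInstance : Y.Normal).conj_mem y y.2 g⟩ := by
    intro g y
    have h1 := hact ⟨g, trivial⟩ y
    show Matrix.toLin' ((LinearMap.toMatrix' (π ⟨g, trivial⟩)).map c) (ψ y) = _
    rw [Matrix.toLin'_apply]
    funext i
    rw [show (ψ y : Fin n → AlgebraicClosure (ZMod 2)) = c ∘ d y from rfl, ← RingHom.map_mulVec,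
      LinearMap.toMatrix'_mulVec, h1]
  have hspan : Submodule.span (AlgebraicClosure (ZMod 2)) (Set.range ψ) = ⊤ := by
    rw [eq_top_iff, ← (Pi.basisFun (AlgebraicClosure (ZMod 2)) (Fin n)).span_eq]
    refine Submodule.span_mono ?_
    rintro _ ⟨i, rfl⟩
    obtain ⟨y, hy⟩ := hsurj (Pi.single i 1)
    refine ⟨y, ?_⟩
    funext l
    show c (d y l) = _
    rw [hy, Pi.basisFun_apply]
    by_cases h : l = i
    · subst h; simp
    · simp [h]
  have hψinj : ∀ y y' : Y, ψ y = ψ y' → d y = d y' := fun y y' h =>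
    funext fun i => c.injective (congrFun h i)
  have hd1 : d 1 = 0 := (hd0 1).mpr (one_mem X)
  have hdinv : ∀ x, d x⁻¹ = -d x := fun x => by
    rw [eq_neg_iff_add_eq_zero, ← hdmul, inv_mul_cancel, hd1]
  have hψsub : ∀ y y' : Y, ψ y - ψ y' = ψ (y * y'⁻¹) := fun y y' => funext fun i => by
    show c (d y i) - c (d y' i) = c (d (y * y'⁻¹) i)
    rw [hdmul, hdinv, ← map_sub, Pi.add_apply, Pi.neg_apply, sub_eq_add_neg]
  refine ⟨n, σ, fun g => ⟨fun hg y hy => ?_, fun hg => ?_⟩, fun W S hWn hWY hYW hWS e he => ?_⟩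
  · have h1 := hint g ⟨y, hy⟩
    rw [hg] at h1
    have h2 := hψinj _ _ h1
    have h3 : d (⟨g * y * g⁻¹, (inferInstance : Y.Normal).conj_mem y hy g⟩ * ⟨y, hy⟩⁻¹ : Y) = 0 := by
      rw [hdmul, hdinv, ← h2, add_neg_cancel]
    have h4 := (hd0 _).mp h3
    rwa [commutatorElement_def]
  · refine LinearMap.ext_on hspan ?_
    rintro _ ⟨y, rfl⟩
    rw [hint, Module.End.one_apply, ← sub_eq_zero, hψsub]
    funext i
    show c (d _ i) = 0
    rw [(hd0 _).mpr (by
      show g * (y : G) * g⁻¹ * (y : G)⁻¹ ∈ X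
      rw [← commutatorElement_def]; exact hg y y.2)]
    simp
  · have hser : ∀ i, vser σ S i ≤
        Submodule.span (AlgebraicClosure (ZMod 2)) (ψ '' {y | (y : G) ∈ W ⊓ dser S i}) := by
      intro i
      induction i with
      | zero =>
        show (⊤ : Submodule _ _) ≤ _
        rw [← hspan, Submodule.span_le]
        rintro _ ⟨y, rfl⟩
        obtain ⟨w, hw, x, hx, hwx⟩ := Subgroup.mem_sup_of_normal_left.mp (hYW y.2)
        refine Submodule.subset_span ⟨⟨w, hWY hw⟩, ⟨hw, hWS hw⟩, ?_⟩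
        funext l
        show c (d _ l) = c (d y l)
        rw [show y = (⟨w, hWY hw⟩ : Y) * ⟨x, hXY hx⟩ from Subtype.ext hwx.symm, hdmul,
          (hd0 ⟨x, hXY hx⟩).mpr hx, add_zero]
      | succ i ih =>
        refine iSup₂_le fun s hs => (Submodule.map_mono ih).trans ?_
        rw [Submodule.map_span, Submodule.span_le]
        rintro _ ⟨_, ⟨y, hy, rfl⟩, rfl⟩
        rw [LinearMap.sub_apply, Module.End.one_apply, hint, hψsub]
        refine Submodule.subset_span ⟨_, ⟨?_, ?_⟩, rfl⟩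
        · show s * (y : G) * s⁻¹ * (y : G)⁻¹ ∈ W
          exact mul_mem (hWn.conj_mem _ hy.1 s) (inv_mem hy.1)
        · show s * (y : G) * s⁻¹ * (y : G)⁻¹ ∈ dser S (i + 1)
          rw [← commutatorElement_def]
          exact Subgroup.commutator_mem_commutator hs hy.2
    rw [eq_bot_iff]
    refine iSup₂_le fun s hs => (Submodule.map_mono (hser e)).trans ?_
    rw [Submodule.map_span, Submodule.span_le]
    rintro _ ⟨_, ⟨y, hy, rfl⟩, rfl⟩
    rw [LinearMap.sub_apply, Module.End.one_apply, hint, hψsub, SetLike.mem_coe, Submodule.mem_bot]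
    funext i
    show c (d _ i) = 0
    rw [(hd0 _).mpr (by
      show s * (y : G) * s⁻¹ * (y : G)⁻¹ ∈ X
      rw [← commutatorElement_def]; exact he y hy s hs)]
    simp

omit [Finite G] in
theorem dser_eq_map (S : Subgroup G) (i : ℕ) : dser S i = (derivedSeries S i).map S.subtype := by
  induction i with
  | zero => rw [derivedSeries_zero, ← MonoidHom.range_eq_map, Subgroup.range_subtype]; rfl
  | succ i ih =>
    show (⁅dser S i, dser S i⁆ : Subgroup G) = _
    rw [derivedSeries_succ, Subgroup.map_commutator, ← ih]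

omit [Finite G] in
theorem mem_derivedSeries_iff (S : Subgroup G) (i : ℕ) (x : S) :
    x ∈ derivedSeries S i ↔ (x : G) ∈ dser S i := by
  rw [dser_eq_map]
  exact (Subgroup.mem_map_iff_mem S.subtype_injective).symm

omit [Finite G] in
/-- The series is a chain for the operators in the subgroup. -/
theorem derivedChain_vser {K : Type v} [Field K] {E : Type w} [AddCommGroup E] [Module K E]
    (ρ : G →* Module.End K E) (S : Subgroup G) (d : ℕ) (hV : vser ρ S d = ⊥) :
    H12.DL.DerivedChain (ρ.comp S.subtype) d (vser ρ S) where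
  top := rfl
  bot := hV
  step j g hg v hv := Submodule.mem_iSup_of_mem (g : G)
    (Submodule.mem_iSup_of_mem ((mem_derivedSeries_iff S j g).mp hg) ⟨v, hv, rfl⟩)

end H51.Derived
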