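import Cfsg.Agent.H12.DL.Defs
import Cfsg.Agent.H6.Basic
import Cfsg.Agent.H28.TwoLength.Deficient

/-!
The series projects onto the components which its members fix.
-/

set_option autoImplicit false
set_option linter.style.haveILetI false
set_option linter.unusedSectionVars false

namespace H51.Derived

open H28.SG
open H12.DL (DerivedChain)

universe u v w

theorem derivedSeries_map_derived {G : Type*} [Group G] (i j : ℕ) :
    (derivedSeries (derivedSeries G i) j).map (derivedSeries G i).subtype =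
      derivedSeries G (i + j) := by
  induction j with
  | zero => rw [derivedSeries_zero, ← MonoidHom.range_eq_map, Subgroup.range_subtype, add_zero]
  | succ j ih => rw [derivedSeries_succ, Subgroup.map_commutator, ih, ← add_assoc, derivedSeries_succ]

theorem mem_derived_derived {G : Type*} [Group G] {i j : ℕ} (x : derivedSeries G i) :
    x ∈ derivedSeries (derivedSeries G i) j ↔ (x : G) ∈ derivedSeries G (i + j) := by
  rw [← derivedSeries_map_derived]
  exact (Subgroup.mem_map_iff_mem (derivedSeries G i).subtype_injective).symm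

variable {K : Type v} [Field K] [CharP K 2] {W : Type w} [AddCommGroup W] [Module K W]
variable {A : Type u} [Group A] [Fintype A]

/-- The projection onto a component. -/
def proj (F : A →* Module.End K W) (μ : A →* K) : Module.End K W :=
  ∑ a : A, μ a⁻¹ • F a

theorem F_proj (F : A →* Module.End K W) (μ : A →* K) (b : A) :
    F b * proj F μ = μ b • proj F μ := by
  rw [proj, Finset.mul_sum, Finset.smul_sum]
  refine Fintype.sum_equiv (Equiv.mulLeft b) _ _ fun a => ?_
  show F b * (μ a⁻¹ • F a) = μ b • μ (b * a)⁻¹ • F (b * a)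
  rw [mul_smul_comm, smul_smul, ← map_mul, ← map_mul, mul_inv_rev]
  congr 1
  have h : μ b * μ b⁻¹ = 1 := by rw [← map_mul, mul_inv_cancel, map_one]
  rw [map_mul μ b, map_mul μ a⁻¹, mul_comm (μ a⁻¹), ← mul_assoc, h, one_mul]

theorem proj_F (F : A →* Module.End K W) (μ : A →* K) (b : A) :
    proj F μ * F b = μ b • proj F μ := by
  rw [proj, Finset.sum_mul, Finset.smul_sum]
  refine Fintype.sum_equiv (Equiv.mulRight b) _ _ fun a => ?_
  show μ a⁻¹ • F a * F b = μ b • μ (a * b)⁻¹ • F (a * b)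
  rw [smul_mul_assoc, smul_smul, ← map_mul, ← map_mul, mul_inv_rev]
  congr 1
  have h : μ b * μ b⁻¹ = 1 := by rw [← map_mul, mul_inv_cancel, map_one]
  rw [map_mul μ b, map_mul μ b⁻¹, ← mul_assoc, h, one_mul]

theorem eig_proj (F : A →* Module.End K W) (μ : A →* K) (v : W) :
    Eig (⇑F) (⇑μ) (proj F μ v) := fun b => by
  rw [← Module.End.mul_apply, F_proj]; rfl

theorem proj_of_eig (hodd : Odd (Fintype.card A)) {F : A →* Module.End K W} {μ : A →* K} {v : W}
    (h : Eig (⇑F) (⇑μ) v) : proj F μ v = v := by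
  have h1 : ∀ a : A, (μ a⁻¹ • F a) v = v := fun a => by
    rw [LinearMap.smul_apply, h a, smul_smul, ← map_mul, inv_mul_cancel, map_one, one_smul]
  rw [proj, LinearMap.sum_apply, Finset.sum_congr rfl fun a _ => h1 a, Finset.sum_const,
    Finset.card_univ, ← Nat.cast_smul_eq_nsmul K]
  obtain ⟨t, ht⟩ := hodd
  rw [ht, Nat.cast_add, Nat.cast_mul, Nat.cast_ofNat, CharTwo.two_eq_zero, zero_mul, zero_add,
    Nat.cast_one, one_smul]

theorem proj_of_ne {F : A →* Module.End K W} {μ ν : A →* K} (hne : μ ≠ ν) {v : W}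
    (h : Eig (⇑F) (⇑ν) v) : proj F μ v = 0 := by
  obtain ⟨b, hb⟩ : ∃ b, μ b ≠ ν b := by
    by_contra hcon
    push Not at hcon
    exact hne (MonoidHom.ext hcon)
  have h1 := LinearMap.congr_fun (proj_F F μ b) v
  rw [Module.End.mul_apply, h b, map_smul, LinearMap.smul_apply] at h1
  by_contra hv
  exact hb (smul_left_injective K hv h1).symm

variable {G : Type*} [Group G] [Finite G]

/-- Transporting a component along an intertwining operator. -/
theorem op_proj (F : A →* Module.End K W) (op : G →* Module.End K W) (σ : G →* MulAut A)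
    (hσ : ∀ g a, op g * F a = F (σ g a) * op g) (g : G) (μ : A →* K) :
    op g * proj F μ = proj F (μ.comp (σ g⁻¹).toMonoidHom) * op g := by
  rw [proj, proj, Finset.mul_sum, Finset.sum_mul]
  refine Fintype.sum_equiv (σ g).toEquiv _ _ fun a => ?_
  show op g * (μ a⁻¹ • F a) = (μ (σ g⁻¹ (σ g a)⁻¹) • F (σ g a)) * op g
  rw [mul_smul_comm, hσ, smul_mul_assoc, map_inv (σ g⁻¹), ← MulAut.mul_apply, ← map_mul,
    inv_mul_cancel, map_one, MulAut.one_apply]

open Classical in
/-- At the first derived subgroup fixing a system of eigenvalues, the series projects onto its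
component. -/
theorem exists_fixing (hG : IsPGroup 2 G) (hodd : Odd (Nat.card A)) (F : A →* Module.End K W)
    (op : G →* Module.End K W) (σ : G →* MulAut A)
    (hσ : ∀ g a, op g * F a = F (σ g a) * op g) {e : ℕ} {V : ℕ → Submodule K W}
    (hV : DerivedChain op e V) {μ : A →* K} {v : W} (hv : v ≠ 0) (hμ : Eig (⇑F) (⇑μ) v) :
    ∃ i < e, (∀ g ∈ derivedSeries G i, ∀ a, μ (σ g a) = μ a) ∧
      ∀ w, Eig (⇑F) (⇑μ) w → ∃ x ∈ V i, proj F μ x = w := by
  have hoddA : Odd (Fintype.card A) := by rwa [← Nat.card_eq_fintype_card]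
  let tr : G → (A →* K) → (A →* K) := fun g ν => ν.comp (σ g⁻¹).toMonoidHom
  have htr1 : ∀ ν, tr 1 ν = ν := fun ν => by
    ext a
    show ν (σ 1⁻¹ a) = ν a
    rw [inv_one, map_one]; rfl
  have htrmul : ∀ g h ν, tr (g * h) ν = tr g (tr h ν) := fun g h ν => by
    ext a
    show ν (σ (g * h)⁻¹ a) = ν (σ h⁻¹ (σ g⁻¹ a))
    rw [mul_inv_rev, map_mul]; rfl
  haveI : Fintype G := Fintype.ofFinite G
  let orb : ℕ → (A →* K) → Finset (A →* K) := fun i ν =>
    (Finset.univ.filter fun g => g ∈ derivedSeries G i).image fun g => tr g ν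
  have hmemorb : ∀ i ν ν', ν' ∈ orb i ν ↔ ∃ g ∈ derivedSeries G i, tr g ν = ν' := fun i ν ν' => by
    simp [orb]
  let P : Finset (A →* K) → Module.End K W := fun O => ∑ ν ∈ O, proj F ν
  have hPeig : ∀ (O : Finset (A →* K)) (ν : A →* K) (w : W), Eig (⇑F) (⇑ν) w →
      P O w = if ν ∈ O then w else 0 := fun O ν w hw => by
    show (∑ ν' ∈ O, proj F ν') w = _
    rw [LinearMap.sum_apply]
    split_ifs with h
    · rw [Finset.sum_eq_single_of_mem ν h fun ν' _ hne => proj_of_ne hne hw, proj_of_eig hoddA hw]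
    · exact Finset.sum_eq_zero fun ν' hν' => proj_of_ne (fun (he : ν' = ν) => h (he ▸ hν')) hw
  -- the claim along the series
  suffices key : ∀ i, (∃ i' < i, (∀ g ∈ derivedSeries G i', ∀ a, μ (σ g a) = μ a) ∧
      ∀ w, Eig (⇑F) (⇑μ) w → ∃ x ∈ V i', proj F μ x = w) ∨
      ∀ y, ∃ x ∈ V i, P (orb i μ) x = P (orb i μ) y by
    rcases key e with h | h
    · exact h
    · obtain ⟨x, hx, hxy⟩ := h v
      rw [hV.bot, Submodule.mem_bot] at hx
      rw [hx, map_zero, hPeig _ μ v hμ, if_pos ((hmemorb e μ μ).mpr ⟨1, one_mem _, htr1 μ⟩)] at hxy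
      exact absurd hxy.symm hv
  intro i
  induction i with
  | zero => exact Or.inr fun y => ⟨y, hV.top ▸ Submodule.mem_top, rfl⟩
  | succ i ih =>
    rcases ih with ⟨i', hi', h⟩ | hfull
    · exact Or.inl ⟨i', by omega, h⟩
    by_cases hfix : ∀ g ∈ derivedSeries G i, ∀ a, μ (σ g a) = μ a
    · refine Or.inl ⟨i, Nat.lt_succ_self i, hfix, fun w hw => ?_⟩
      have horb : orb i μ = {μ} := Finset.eq_singleton_iff_unique_mem.mpr
        ⟨(hmemorb i μ μ).mpr ⟨1, one_mem _, htr1 μ⟩, fun ν hν => by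
          obtain ⟨g, hg, rfl⟩ := (hmemorb i μ ν).mp hν
          ext a
          exact hfix g⁻¹ (inv_mem hg) a⟩
      obtain ⟨x, hx, hxy⟩ := hfull w
      refine ⟨x, hx, ?_⟩
      rw [horb] at hxy
      simpa [P, proj_of_eig hoddA hw] using hxy
    right
    -- the derived subgroup is intransitive
    set D := derivedSeries G i with hD
    let St : Subgroup D :=
      { carrier := {g | tr (g : G) μ = μ}
        one_mem' := htr1 μ
        mul_mem' := fun {g h} hg hh => by
          show tr ((g : G) * h) μ = μ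
          rw [htrmul, show tr (h : G) μ = μ from hh]; exact hg
        inv_mem' := fun {g} hg => by
          show tr (g : G)⁻¹ μ = μ
          conv_lhs => rw [← show tr (g : G) μ = μ from hg]
          rw [← htrmul, inv_mul_cancel, htr1] }
    obtain ⟨g₀, hg₀⟩ : ∃ g : D, tr (g : G) μ ∉ orb (i + 1) μ := by
      by_contra hcon
      push Not at hcon
      apply hfix
      haveI := Fact.mk Nat.prime_two
      have htop : St ⊔ frattini D = ⊤ := by
        rw [eq_top_iff]
        intro g _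
        obtain ⟨h, hh, hgh⟩ := (hmemorb _ _ _).mp (hcon g)
        have hle : derivedSeries G (i + 1) ≤ D := derivedSeries_antitone G (Nat.le_succ i)
        have h1 : (⟨h, hle hh⟩ : D) ∈ frattini D := by
          refine H6.commutator_le_frattini (hG.to_subgroup D) ?_
          exact (mem_derived_derived (⟨h, hle hh⟩ : D) (j := 1)).mpr hh
        have h2 : (⟨h, hle hh⟩ : D)⁻¹ * g ∈ St := by
          show tr (h⁻¹ * (g : G)) μ = μ
          rw [htrmul, ← hgh, ← htrmul, inv_mul_cancel, htr1]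
        have := mul_mem (Subgroup.mem_sup_right h1 : (⟨h, hle hh⟩ : D) ∈ St ⊔ frattini D)
          (Subgroup.mem_sup_left h2)
        rwa [mul_inv_cancel_left] at this
      have hSt := frattini_nongenerating htop
      intro g hg a
      have h1 : (⟨g⁻¹, inv_mem hg⟩ : D) ∈ St := hSt ▸ Subgroup.mem_top _
      have h2 : tr g⁻¹ μ = μ := h1
      conv_rhs => rw [← h2]
      show μ (σ g a) = μ (σ g⁻¹⁻¹ a)
      rw [inv_inv]
    intro y
    -- move a vector into the moved orbit
    set O' := orb (i + 1) μ with hO'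
    have hsub : ∀ ν ∈ O', ν ∈ orb i μ := fun ν hν => by
      obtain ⟨h, hh, rfl⟩ := (hmemorb _ _ _).mp hν
      exact (hmemorb _ _ _).mpr ⟨h, derivedSeries_antitone G (Nat.le_succ i) hh, rfl⟩
    have hg' : ∀ ν ∈ O', tr (g₀ : G) ν ∉ O' := by
      intro ν hν hν'
      obtain ⟨h, hh, rfl⟩ := (hmemorb _ _ _).mp hν
      obtain ⟨h', hh', he⟩ := (hmemorb _ _ _).mp hν'
      apply hg₀
      refine (hmemorb _ _ _).mpr ⟨(g₀ : G) * h⁻¹ * (g₀ : G)⁻¹ * h',
        mul_mem ((derivedSeries_normal G (i + 1)).conj_mem _ (inv_mem hh) _) hh', ?_⟩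
      rw [htrmul, he, ← htrmul, ← htrmul]
      congr 1
      group
    have hpp : ∀ (O : Finset (A →* K)) (ν : A →* K) (z : W), ν ∈ O →
        proj F ν (P O z) = proj F ν z := fun O ν z hν => by
      show proj F ν ((∑ ν' ∈ O, proj F ν') z) = _
      rw [LinearMap.sum_apply, map_sum,
        Finset.sum_eq_single_of_mem ν hν fun ν' _ hne => proj_of_ne hne.symm (eig_proj F ν' z)]
      exact proj_of_eig hoddA (eig_proj F ν z)
    have hPP : ∀ (O O₁ : Finset (A →* K)) (z : W), (∀ ν ∈ O, ν ∈ O₁) → P O₁ (P O z) = P O z := by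
      intro O O₁ z hOO
      have he : P O z = ∑ ν ∈ O, proj F ν z := LinearMap.sum_apply _ _ _
      rw [he, map_sum]
      refine Finset.sum_congr rfl fun ν hν => ?_
      rw [hPeig O₁ ν _ (eig_proj F ν z), if_pos (hOO ν hν)]
    obtain ⟨x, hx, hxy⟩ := hfull (-(P O' y))
    rw [map_neg, hPP O' (orb i μ) y hsub] at hxy
    refine ⟨op (g₀ : G) x - x, hV.step i _ g₀.2 x hx, ?_⟩
    have hxν : ∀ ν ∈ orb i μ, proj F ν x = -proj F ν (P O' y) := fun ν hν => by
      rw [← hpp (orb i μ) ν x hν, hxy, map_neg]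
    have h1 : P O' x = -(P O' y) := by
      show (∑ ν ∈ O', proj F ν) x = -((∑ ν ∈ O', proj F ν) y)
      rw [LinearMap.sum_apply, LinearMap.sum_apply, ← Finset.sum_neg_distrib]
      refine Finset.sum_congr rfl fun ν hν => ?_
      rw [hxν ν (hsub ν hν), hpp O' ν y hν]
    have h2 : P O' (op (g₀ : G) x) = 0 := by
      show (∑ ν ∈ O', proj F ν) (op (g₀ : G) x) = 0
      rw [LinearMap.sum_apply]
      refine Finset.sum_eq_zero fun ν hν => ?_
      have hν'' : tr (g₀ : G) (tr (g₀ : G)⁻¹ ν) = ν := by rw [← htrmul, mul_inv_cancel, htr1]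
      have h3 : op (g₀ : G) * proj F (tr (g₀ : G)⁻¹ ν) = proj F ν * op (g₀ : G) := by
        rw [op_proj F op σ hσ]
        exact congrArg (fun η => proj F η * op (g₀ : G)) hν''
      rw [← Module.End.mul_apply, ← h3, Module.End.mul_apply]
      have hmem : tr (g₀ : G)⁻¹ ν ∈ orb i μ := by
        obtain ⟨h, hh, rfl⟩ := (hmemorb _ _ _).mp (hsub ν hν)
        exact (hmemorb _ _ _).mpr ⟨(g₀ : G)⁻¹ * h, mul_mem (inv_mem g₀.2) hh, htrmul _ _ _⟩
      rw [hxν _ hmem]
      have hnot : tr (g₀ : G)⁻¹ ν ∉ O' := fun hm => hg' _ hm (by rw [hν'']; exact hν)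
      have h4 : proj F (tr (g₀ : G)⁻¹ ν) (P O' y) = 0 := by
        show proj F _ ((∑ ν' ∈ O', proj F ν') y) = 0
        rw [LinearMap.sum_apply, map_sum]
        exact Finset.sum_eq_zero fun ν' hν' =>
          proj_of_ne (fun (he : tr (g₀ : G)⁻¹ ν = ν') => hnot (he.symm ▸ hν')) (eig_proj F ν' y)
      rw [h4, neg_zero, map_zero]
    rw [map_sub, h1, h2, zero_sub, neg_neg]

/-- Restriction of the chain to a component of the first fixing derived subgroup. -/
theorem exists_stage (hG : IsPGroup 2 G) (hodd : Odd (Nat.card A)) (F : A →* Module.End K W)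
    (op : G →* Module.End K W) (σ : G →* MulAut A)
    (hσ : ∀ g a, op g * F a = F (σ g a) * op g) {e : ℕ} {V : ℕ → Submodule K W}
    (hV : DerivedChain op e V) {μ : A →* K} {v : W} (hv : v ≠ 0) (hμ : Eig (⇑F) (⇑μ) v) :
    ∃ i < e, (∀ g ∈ derivedSeries G i, ∀ a, μ (σ g a) = μ a) ∧
      ∃ (hinv : ∀ g : derivedSeries G i, ∀ x ∈ eigSpace (⇑F) (⇑μ),
          op.comp (derivedSeries G i).subtype g x ∈ eigSpace (⇑F) (⇑μ))
        (V' : ℕ → Submodule K (eigSpace (⇑F) (⇑μ))),
        DerivedChain (subRep (op.comp (derivedSeries G i).subtype) _ hinv) (e - i) V' := by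
  obtain ⟨i, hi, hfix, hfull⟩ := exists_fixing hG hodd F op σ hσ hV hv hμ
  have hcomm : ∀ g ∈ derivedSeries G i, op g * proj F μ = proj F μ * op g := fun g hg => by
    rw [op_proj F op σ hσ]
    congr 2
    ext a
    exact hfix g⁻¹ (inv_mem hg) a
  refine ⟨i, hi, hfix, fun g x hx => ?_,
    fun j => ((V (i + j)).map (proj F μ)).comap (eigSpace (⇑F) (⇑μ)).subtype, ?_⟩
  · rw [mem_eigSpace] at hx ⊢
    intro a
    show F a (op (g : G) x) = μ a • op (g : G) x
    have h1 := LinearMap.congr_fun (hσ (g : G) (σ (g : G)⁻¹ a)) x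
    rw [← MulAut.mul_apply, ← map_mul σ, mul_inv_cancel, map_one, MulAut.one_apply,
      Module.End.mul_apply, Module.End.mul_apply] at h1
    rw [← h1, hx, map_smul, hfix _ (inv_mem g.2)]
  refine ⟨?_, ?_, fun j g hg u hu => ?_⟩
  · rw [eq_top_iff]
    rintro ⟨u, hu⟩ -
    obtain ⟨x, hx, hxu⟩ := hfull u (mem_eigSpace.mp hu)
    exact ⟨x, hx, hxu⟩
  · show ((V (i + (e - i))).map (proj F μ)).comap _ = ⊥
    rw [Nat.add_sub_cancel' hi.le, hV.bot, Submodule.map_bot, Submodule.comap_bot,
      Submodule.ker_subtype]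
  · obtain ⟨x, hx, hxu⟩ := hu
    have hg' : ((g : derivedSeries G i) : G) ∈ derivedSeries G (i + j) :=
      (mem_derived_derived g).mp hg
    refine ⟨op (g : G) x - x, hV.step (i + j) _ hg' x hx, ?_⟩
    show proj F μ (op (g : G) x - x) = op (g : G) (u : W) - (u : W)
    have hxu' : proj F μ x = (u : W) := hxu
    rw [map_sub, ← Module.End.mul_apply, ← hcomm _ g.2, Module.End.mul_apply, hxu']

end H51.Derived
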