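import Cfsg.Agent.H51.Derived.Systems
import Cfsg.Agent.H51.Derived.Head
import Cfsg.Agent.H51.Derived.Detect
import Cfsg.Agent.H58.Bryu.SectionRep
import Cfsg.Agent.H32.Sylow
import Cfsg.Agent.H10.PSolvable

/-!
The strictly decreasing chain and the representation of the next layer.
-/

set_option autoImplicit false
set_option linter.style.haveILetI false
set_option linter.unusedSectionVars false

namespace H51.Derived

open Cfsg
open H51.Bryu (frat frat_le frat_sq)
open H58.Bryu (lcs exists_lcs_eq_bot commute_of_section)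
open scoped commutatorElement

universe u v w

variable {G : Type u} [Group G] [Finite G]

/-- The commutators of the penultimate derived subgroup with its part in `W`. -/
def commSet (W S : Subgroup G) (d : ℕ) : Set G :=
  {x | ∃ y ∈ W ⊓ dser S (d - 2), ∃ a ∈ dser S (d - 2), ⁅y, a⁆ = x}

/-- The next term of the chain. -/
def nextTerm (W S : Subgroup G) (d : ℕ) : Subgroup G :=
  frat W ⊔ Subgroup.normalClosure (commSet W S d)

theorem commSet_le {W : Subgroup G} (hW : W.Normal) (S : Subgroup G) (d : ℕ) :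
    commSet W S d ⊆ (W : Set G) := by
  rintro _ ⟨y, hy, a, -, rfl⟩
  rw [SetLike.mem_coe, commutatorElement_def,
    show y * a * y⁻¹ * a⁻¹ = y * (a * y⁻¹ * a⁻¹) by group]
  exact mul_mem hy.1 (hW.conj_mem _ (inv_mem hy.1) a)

theorem nextTerm_le {W : Subgroup G} (hW : W.Normal) (S : Subgroup G) (d : ℕ) :
    nextTerm W S d ≤ W :=
  sup_le (frat_le W) (Subgroup.normalClosure_le_normal (commSet_le hW S d))

theorem nextTerm_normal {W : Subgroup G} (hW : W.Normal) (S : Subgroup G) (d : ℕ) :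
    (nextTerm W S d).Normal := by
  haveI := hW
  haveI : (frat W).Normal := H10.map_frattini_subtype_normal inferInstance
  unfold nextTerm
  infer_instance

variable {H : Type u} [Group H] [Finite H]
variable {K : Type v} [Field K] [CharP K 2] [IsAlgClosed K]
variable {Wρ : Type w} [AddCommGroup Wρ] [Module K Wρ] [FiniteDimensional K Wρ]

/-- The chain strictly decreases. -/
theorem eq_bot_of_nextTerm_eq (hH : Group.IsSolvable H) (ρ : H →* Module.End K Wρ)
    (hρ : Function.Injective ρ) (hO : pCore 2 H = ⊥)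
    (hcore : ∀ (r : ℕ) [Fact r.Prime], r ≠ 2 → CoreProp.{v, w, u} r K)
    (ι : G →* H) (hι : Function.Injective ι) (S : Subgroup G) (hS : IsPGroup 2 S) (d : ℕ)
    (hd : 2 ≤ d) (hV : vser (ρ.comp ι) S d = ⊥) (W : Subgroup G) [W.Normal] (hWS : W ≤ S)
    (hfix : nextTerm W S d = W) : W = ⊥ := by
  classical
  have hWp : IsPGroup 2 W := hS.to_le hWS
  have hgen : Subgroup.normalClosure (commSet W S d) = W := by
    refine le_antisymm (Subgroup.normalClosure_le_normal (commSet_le inferInstance S d)) ?_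
    set X := (Subgroup.normalClosure (commSet W S d)).subgroupOf W
    have htop : X ⊔ frattini W = ⊤ := by
      rw [eq_top_iff]
      rintro ⟨w, hw⟩ -
      haveI : (frat W).Normal := H10.map_frattini_subtype_normal inferInstance
      rw [← hfix] at hw
      obtain ⟨p, hp, q, hq, hpq⟩ := Subgroup.mem_sup_of_normal_left.mp hw
      obtain ⟨p', hp', rfl⟩ := hp
      have hqW : q ∈ W :=
        Subgroup.normalClosure_le_normal (commSet_le inferInstance S d) hq
      have := mul_mem (Subgroup.mem_sup_right hp' : p' ∈ X ⊔ frattini W)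
        (Subgroup.mem_sup_left (show (⟨q, hqW⟩ : W) ∈ X from hq))
      convert this using 1
      exact Subtype.ext hpq.symm
    intro w hw
    exact (frattini_nongenerating htop ▸ Subgroup.mem_top (⟨w, hw⟩ : W) : (⟨w, hw⟩ : W) ∈ X)
  -- the generators
  have hgenA : ∀ x ∈ commSet W S d, x ∈ W ∧ x ∈ dser S (d - 1) := by
    rintro x hx
    refine ⟨commSet_le inferInstance S d hx, ?_⟩
    obtain ⟨y, hy, a, ha, rfl⟩ := hx
    rw [show d - 1 = d - 2 + 1 by omega]
    exact Subgroup.commutator_mem_commutator hy.2 ha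
  have hnorm : ∀ w ∈ S, ∀ i, ∀ x ∈ dser S i, w * x * w⁻¹ ∈ dser S i := by
    intro w hw i x hx
    rw [dser_eq_map] at hx ⊢
    obtain ⟨x', hx', rfl⟩ := hx
    exact ⟨(⟨w, hw⟩ : S) * x' * (⟨w, hw⟩ : S)⁻¹,
      (derivedSeries_normal S i).conj_mem x' hx' _, rfl⟩
  have hS2 : ∀ t ∈ S, ∃ n : ℕ, ι t ^ 2 ^ n = 1 := fun t ht => by
    obtain ⟨n, hn⟩ := hS ⟨t, ht⟩
    exact ⟨n, by rw [← map_pow, show t ^ 2 ^ n = 1 from congrArg Subtype.val hn, map_one]⟩
  -- per system
  have hsys : ∀ (r : ℕ) [Fact r.Prime] (C Z : Subgroup H) [C.Normal] [Z.Normal], r ≠ 2 →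
      IsPGroup r C → (∀ x ∈ C, ∀ y ∈ C, ⁅x, y⁆ ∈ Z) → Z ≤ C →
      Z ≤ Subgroup.centralizer (C : Set H) → (∀ x ∈ C, x ^ r ∈ Z) →
      ∀ (μ : H → K) (v : Wρ), v ≠ 0 → (∀ c ∈ Z, ρ c v = μ c • v) →
        (∀ w ∈ W, ∀ c ∈ Z, μ (ι w * c * (ι w)⁻¹) = μ c) ∧
        (∀ x ∈ commSet W S d, ∀ w ∈ W, TrivOn C μ (ι ⁅w, x⁆)) ∧
        (∀ x ∈ commSet W S d, TrivOn C μ (ι (x * x))) ∧
        ∀ y ∈ W ⊓ dser S (d - 2), ∀ a ∈ dser S (d - 2), y * y = 1 → TrivOn C μ (ι ⁅y, a⁆) := by
    intro r _ C Z _ _ hr2 hC hcom hZC hZc hpow μ v hv hμ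
    have hchain := derivedChain_vser (ρ.comp ι) S d hV
    have hfacts : ∀ (μ : H → K) (v : Wρ), v ≠ 0 → (∀ c ∈ Z, ρ c v = μ c • v) → _ :=
      fun μ v hv hμ => system_facts ρ hr2 (hcore r hr2) C Z hC hcom hZC hZc hpow μ hv hμ
        hS (ι.comp S.subtype) d hd _ hchain
    obtain ⟨hA, hB, hC'⟩ := hfacts μ v hv hμ
    have hZcomm : ∀ a ∈ Z, ∀ b ∈ Z, Commute a b := fun a ha b hb =>
      Subgroup.mem_centralizer_iff.mp (hZc hb) a (hZC ha)
    have hodd := H28.TwoLength.odd_card hr2 (hC.to_le hZC)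
    have hZfix : ∀ w ∈ W, ∀ c ∈ Z, ι w * c * (ι w)⁻¹ = c := by
      haveI : (Subgroup.centralizer (Z : Set H)).Normal := Subgroup.normal_centralizer
      have hle : Subgroup.normalClosure (commSet W S d) ≤
          (Subgroup.centralizer (Z : Set H)).comap ι := by
        haveI : ((Subgroup.centralizer (Z : Set H)).comap ι).Normal :=
          Subgroup.Normal.comap inferInstance ι
        refine Subgroup.normalClosure_le_normal fun x hx => ?_
        obtain ⟨hxW, hxA⟩ := hgenA x hx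
        rw [SetLike.mem_coe, Subgroup.mem_comap, Subgroup.mem_centralizer_iff]
        intro c hc
        by_contra hne
        have hc' : ι x * c * (ι x)⁻¹ ∈ Z := (inferInstance : Z.Normal).conj_mem c hc _
        obtain ⟨μ', v', hv', hμ', hμne⟩ := H28.TwoLength.exists_system ρ hρ Z hZcomm hodd
          (mul_mem hc' (inv_mem hc))
          (fun h => hne (mul_inv_eq_iff_eq_mul.mp (mul_inv_eq_one.mp h)).symm)
        have hmul : ∀ a ∈ Z, ∀ b ∈ Z, μ' (a * b) = μ' a * μ' b := fun a ha b hb => by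
          apply smul_left_injective K hv'
          show μ' (a * b) • v' = (μ' a * μ' b) • v'
          rw [← hμ' _ (mul_mem ha hb), map_mul, Module.End.mul_apply, hμ' b hb, map_smul,
            hμ' a ha, smul_smul, mul_comm]
        apply hμne
        have h1 := (hfacts μ' v' hv' hμ').1 ⟨x, hWS hxW⟩
          ((mem_derivedSeries_iff S _ _).mpr hxA) c hc
        rw [hmul _ hc' _ (inv_mem hc), show μ' (ι x * c * (ι x)⁻¹) = μ' c from h1,
          ← hmul _ hc _ (inv_mem hc), mul_inv_cancel]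
        apply smul_left_injective K hv'
        show μ' 1 • v' = (1 : K) • v'
        rw [← hμ' 1 (one_mem Z), map_one, one_smul]; rfl
      rw [hgen] at hle
      intro w hw c hc
      rw [← Subgroup.mem_centralizer_iff.mp (hle hw) c hc, mul_inv_cancel_right]
    -- the radical and the kernel
    have hμmul : ∀ a ∈ Z, ∀ b ∈ Z, μ (a * b) = μ a * μ b := fun a ha b hb => by
      apply smul_left_injective K hv
      show μ (a * b) • v = (μ a * μ b) • v
      rw [← hμ _ (mul_mem ha hb), map_mul, Module.End.mul_apply, hμ b hb, map_smul, hμ a ha,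
        smul_smul, mul_comm]
    have hμ1 : μ 1 = 1 := by
      apply smul_left_injective K hv
      show μ 1 • v = (1 : K) • v
      rw [← hμ 1 (one_mem Z), map_one, one_smul]; rfl
    let M : Subgroup H :=
      { carrier := {x | x ∈ C ∧ ∀ y ∈ C, μ ⁅x, y⁆ = 1}
        one_mem' := ⟨one_mem C, fun y _ => by rw [commutatorElement_one_left, hμ1]⟩
        mul_mem' := fun {a b} ha hb => ⟨mul_mem ha.1 hb.1, fun y hy => by
          have hz : a * ⁅b, y⁆ * a⁻¹ = ⁅b, y⁆ := by
            rw [Subgroup.mem_centralizer_iff.mp (hZc (hcom _ hb.1 _ hy)) a ha.1,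
              mul_inv_cancel_right]
          rw [show ⁅a * b, y⁆ = a * ⁅b, y⁆ * a⁻¹ * ⁅a, y⁆ by
            simp only [commutatorElement_def]; group, hz,
            hμmul _ (hcom _ hb.1 _ hy) _ (hcom _ ha.1 _ hy), ha.2 y hy, hb.2 y hy, one_mul]⟩
        inv_mem' := fun {a} ha => ⟨inv_mem ha.1, fun y hy => by
          have hz : a⁻¹ * ⁅a, y⁆⁻¹ * a = ⁅a, y⁆⁻¹ := by
            have h := Subgroup.mem_centralizer_iff.mp (hZc (inv_mem (hcom _ ha.1 _ hy))) a⁻¹
              (inv_mem ha.1)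
            rw [h, inv_mul_cancel_right]
          rw [show ⁅a⁻¹, y⁆ = a⁻¹ * ⁅a, y⁆⁻¹ * a by simp only [commutatorElement_def]; group, hz]
          have h := hμmul _ (hcom _ ha.1 _ hy) _ (inv_mem (hcom _ ha.1 _ hy))
          rw [mul_inv_cancel, hμ1, ha.2 y hy, one_mul] at h
          exact h.symm⟩ }
    have hΓM : ∀ g : H, (∀ c ∈ Z, g * c * g⁻¹ = c) → ∀ m ∈ M, g * m * g⁻¹ ∈ M := by
      intro g hg m hm
      refine ⟨(inferInstance : C.Normal).conj_mem m hm.1 g, fun y hy => ?_⟩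
      have hy' : g⁻¹ * y * g⁻¹⁻¹ ∈ C := (inferInstance : C.Normal).conj_mem y hy g⁻¹
      rw [show ⁅g * m * g⁻¹, y⁆ = g * ⁅m, g⁻¹ * y * g⁻¹⁻¹⁆ * g⁻¹ by
        simp only [commutatorElement_def]; group, hg _ (hcom m hm.1 _ hy')]
      exact hm.2 _ hy'
    have hconjC : ∀ (g x : H), x ∈ C → g * x * g⁻¹ ∈ C := fun g x hx =>
      (inferInstance : C.Normal).conj_mem x hx g
    have htrivM : ∀ t, TrivOn C μ t → ∀ x ∈ C, x⁻¹ * (t * x * t⁻¹) ∈ M := fun t ht x hx =>
      ⟨mul_mem (inv_mem hx) (hconjC t x hx), ht x hx⟩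
    let Kμ : Subgroup H :=
      { carrier := {t | (∀ c ∈ Z, t * c * t⁻¹ = c) ∧ TrivOn C μ t}
        one_mem' := ⟨fun c _ => by group, fun x _ y _ => by simp [hμ1]⟩
        mul_mem' := fun {a b} ha hb => ⟨fun c hc => by
            rw [show a * b * c * (a * b)⁻¹ = a * (b * c * b⁻¹) * a⁻¹ by group, hb.1 c hc, ha.1 c hc],
          fun x hx y hy => by
            have h1 : x⁻¹ * (a * x * a⁻¹) * (a * (x⁻¹ * (b * x * b⁻¹)) * a⁻¹) ∈ M :=
              mul_mem (htrivM a ha.2 x hx) (hΓM a ha.1 _ (htrivM b hb.2 x hx))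
            rw [show x⁻¹ * (a * x * a⁻¹) * (a * (x⁻¹ * (b * x * b⁻¹)) * a⁻¹) =
              x⁻¹ * (a * b * x * (a * b)⁻¹) by group] at h1
            exact h1.2 y hy⟩
        inv_mem' := fun {a} ha => ⟨fun c hc => by
            conv_lhs => rw [← ha.1 c hc]
            group,
          fun x hx y hy => by
            have h1 : ((a⁻¹ * x * a⁻¹⁻¹)⁻¹ * (a * (a⁻¹ * x * a⁻¹⁻¹) * a⁻¹))⁻¹ ∈ M :=
              inv_mem (htrivM a ha.2 _ (hconjC a⁻¹ x hx))
            rw [show ((a⁻¹ * x * a⁻¹⁻¹)⁻¹ * (a * (a⁻¹ * x * a⁻¹⁻¹) * a⁻¹))⁻¹ =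
              x⁻¹ * (a⁻¹ * x * a⁻¹⁻¹) by group] at h1
            exact h1.2 y hy⟩ }
    have hKconj : ∀ g, (∀ c ∈ Z, g * c * g⁻¹ = c) → ∀ t ∈ Kμ, g * t * g⁻¹ ∈ Kμ := by
      intro g hg t ht
      have hg' : ∀ c ∈ Z, g⁻¹ * c * g⁻¹⁻¹ = c := fun c hc => by
        conv_lhs => rw [← hg c hc]
        group
      refine ⟨fun c hc => ?_, fun x hx y hy => ?_⟩
      · rw [show g * t * g⁻¹ * c * (g * t * g⁻¹)⁻¹ = g * (t * (g⁻¹ * c * g⁻¹⁻¹) * t⁻¹) * g⁻¹ by
          group, hg' c hc, ht.1 c hc, hg c hc]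
      · have h1 := hΓM g hg _ (htrivM t ht.2 _ (hconjC g⁻¹ x hx))
        rw [show g * ((g⁻¹ * x * g⁻¹⁻¹)⁻¹ * (t * (g⁻¹ * x * g⁻¹⁻¹) * t⁻¹)) * g⁻¹ =
          x⁻¹ * (g * t * g⁻¹ * x * (g * t * g⁻¹)⁻¹) by group] at h1
        exact h1.2 y hy
    have hsame : ∀ p ∈ W, p ∈ dser S (d - 1) → ∀ q ∈ W, q ∈ dser S (d - 1) →
        ι p ∉ Kμ → ι q ∉ Kμ → ι q * (ι p)⁻¹ ∈ Kμ := by
      intro p hp hpA q hq hqA hnp hnq
      refine ⟨fun c hc => ?_, fun x hx y hy => ?_⟩
      · rw [← map_inv, ← map_mul]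
        exact hZfix _ (mul_mem hq (inv_mem hp)) c hc
      · have h1 := hB ⟨p, hWS hp⟩ ((mem_derivedSeries_iff S _ _).mpr hpA) ⟨q, hWS hq⟩
          ((mem_derivedSeries_iff S _ _).mpr hqA) (fun h => hnp ⟨hZfix p hp, h⟩)
          (fun h => hnq ⟨hZfix q hq, h⟩) ((ι p)⁻¹ * x * (ι p)⁻¹⁻¹) (hconjC _ x hx) y hy
        simp only [MonoidHom.comp_apply, Subgroup.coe_subtype] at h1
        rw [show (ι p * ((ι p)⁻¹ * x * (ι p)⁻¹⁻¹) * (ι p)⁻¹)⁻¹ *
          (ι q * ((ι p)⁻¹ * x * (ι p)⁻¹⁻¹) * (ι q)⁻¹) =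
          x⁻¹ * (ι q * (ι p)⁻¹ * x * (ι q * (ι p)⁻¹)⁻¹) by group] at h1
        exact h1
    refine ⟨fun w hw c hc => by rw [hZfix w hw c hc], fun x hx w hw => ?_, fun x hx => ?_,
      fun y hy a ha hyy => ?_⟩
    · obtain ⟨hxW, hxA⟩ := hgenA x hx
      have hmem : ι ⁅w, x⁆ = ι (w * x * w⁻¹) * (ι x)⁻¹ := by
        rw [← map_inv, ← map_mul, commutatorElement_def]
      rw [hmem]
      by_cases hK : ι x ∈ Kμ
      · refine (mul_mem ?_ (inv_mem hK) : _ ∈ Kμ).2
        rw [map_mul, map_mul, map_inv]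
        exact hKconj _ (hZfix w hw) _ hK
      · refine (hsame x hxW hxA _ (mul_mem (mul_mem hw hxW) (inv_mem hw))
          (hnorm w (hWS hw) _ x hxA) hK fun h => hK ?_).2
        have h2 := hKconj (ι w)⁻¹ (fun c hc => by rw [← map_inv]; exact hZfix _ (inv_mem hw) c hc) _ h
        rwa [map_mul, map_mul, map_inv, inv_inv,
          show (ι w)⁻¹ * (ι w * ι x * (ι w)⁻¹) * ι w = ι x by group] at h2
    · obtain ⟨hxW, hxA⟩ := hgenA x hx
      by_cases hK : ι x ∈ Kμ
      · rw [map_mul]; exact (mul_mem hK hK : _ ∈ Kμ).2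
      by_contra hK2
      apply hK
      have h := hsame x hxW hxA (x * x) (mul_mem hxW hxW) (mul_mem hxA hxA) hK fun h => hK2 h.2
      rwa [map_mul, mul_inv_cancel_right] at h
    · have hyS : y ∈ S := dser_le S _ hy.2
      have haS : a ∈ S := dser_le S _ ha
      have h := hC' ⟨y, hyS⟩ ((mem_derivedSeries_iff S _ _).mpr hy.2) ⟨a, haS⟩
        ((mem_derivedSeries_iff S _ _).mpr ha) (Subtype.ext hyy)
      simpa [commutatorElement_def] using h
  -- detection
  have hdetect : ∀ t ∈ W, (∀ (r : ℕ) [Fact r.Prime] (C Z : Subgroup H) [C.Normal] [Z.Normal],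
      r ≠ 2 → IsPGroup r C → (∀ x ∈ C, ∀ y ∈ C, ⁅x, y⁆ ∈ Z) → Z ≤ C →
      Z ≤ Subgroup.centralizer (C : Set H) → (∀ x ∈ C, x ^ r ∈ Z) →
      ∀ (μ : H → K) (v : Wρ), v ≠ 0 → (∀ c ∈ Z, ρ c v = μ c • v) → TrivOn C μ (ι t)) → t = 1 := by
    intro t ht h
    obtain ⟨n, hn⟩ := hS2 t (hWS ht)
    refine hι ((eq_one_of_systems hH ρ hρ hO hn ?_).trans (map_one ι).symm)
    intro r _ C Z _ _ hr2 hC hcom hZC hZc hpow μ v hv hμ
    exact ⟨(hsys r C Z hr2 hC hcom hZC hZc hpow μ v hv hμ).1 t ht,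
      h r C Z hr2 hC hcom hZC hZc hpow μ v hv hμ⟩
  have hcentral : W ≤ Subgroup.centralizer (W : Set G) := by
    haveI : (Subgroup.centralizer (W : Set G)).Normal := Subgroup.normal_centralizer
    conv_lhs => rw [← hgen]
    refine Subgroup.normalClosure_le_normal fun x hx => ?_
    rw [SetLike.mem_coe, Subgroup.mem_centralizer_iff]
    intro w hw
    refine commutatorElement_eq_one_iff_mul_comm.mp (hdetect _ ?_ ?_)
    · rw [commutatorElement_def]
      exact mul_mem (mul_mem (mul_mem hw (hgenA x hx).1) (inv_mem hw)) (inv_mem (hgenA x hx).1)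
    · intro r _ C Z _ _ hr2 hC hcom hZC hZc hpow μ v hv hμ
      exact (hsys r C Z hr2 hC hcom hZC hZc hpow μ v hv hμ).2.1 x hx w hw
  let Inv : Subgroup G :=
    { carrier := {g | g ∈ W ∧ g * g = 1}
      one_mem' := ⟨one_mem W, one_mul 1⟩
      mul_mem' := fun {a b} ha hb => ⟨mul_mem ha.1 hb.1, by
        rw [show a * b * (a * b) = a * (b * a) * b by group,
          ← Subgroup.mem_centralizer_iff.mp (hcentral hb.1) a ha.1,
          show a * (a * b) * b = a * a * (b * b) by group, ha.2, hb.2, one_mul]⟩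
      inv_mem' := fun {a} ha => ⟨inv_mem ha.1, by rw [← mul_inv_rev, ha.2, inv_one]⟩ }
  haveI : Inv.Normal := ⟨fun x hx g => ⟨(inferInstance : W.Normal).conj_mem x hx.1 g, by
    rw [show g * x * g⁻¹ * (g * x * g⁻¹) = g * (x * x) * g⁻¹ by group, hx.2, mul_one,
      mul_inv_cancel]⟩⟩
  have hexp2 : W ≤ Inv := by
    conv_lhs => rw [← hgen]
    refine Subgroup.normalClosure_le_normal fun x hx => ⟨(hgenA x hx).1, ?_⟩
    refine hdetect _ (mul_mem (hgenA x hx).1 (hgenA x hx).1) ?_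
    intro r _ C Z _ _ hr2 hC hcom hZC hZc hpow μ v hv hμ
    exact (hsys r C Z hr2 hC hcom hZC hZc hpow μ v hv hμ).2.2.1 x hx
  rw [← hgen, eq_bot_iff]
  refine Subgroup.normalClosure_le_normal fun x hx => ?_
  rw [SetLike.mem_coe, Subgroup.mem_bot]
  refine hdetect x (hgenA x hx).1 ?_
  intro r _ C Z _ _ hr2 hC hcom hZC hZc hpow μ v hv hμ
  obtain ⟨y, hy, a, ha, rfl⟩ := hx
  exact (hsys r C Z hr2 hC hcom hZC hZc hpow μ v hv hμ).2.2.2 y hy a ha (hexp2 hy.1).2

/-- The representation of the next layer on the sections of the chain. -/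
theorem exists_layer_rep (hH : Group.IsSolvable H) (ρ : H →* Module.End K Wρ)
    (hρ : Function.Injective ρ) (hO : pCore 2 H = ⊥)
    (hcore : ∀ (r : ℕ) [Fact r.Prime], r ≠ 2 → CoreProp.{v, w, u} r K)
    (ι : G →* H) (hι : Function.Injective ι) (T S : Subgroup G) [T.Normal] (hTS : T ≤ S)
    (hS : IsPGroup 2 S) (d : ℕ) (hd : 2 ≤ d) (hV : vser (ρ.comp ι) S d = ⊥) :
    ∃ (M : Type) (_ : AddCommGroup M) (_ : Module (AlgebraicClosure (ZMod 2)) M)
      (_ : FiniteDimensional (AlgebraicClosure (ZMod 2)) M)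
      (σ : G →* Module.End (AlgebraicClosure (ZMod 2)) M),
      (∀ g ∈ T, σ g = 1) ∧ (∀ g ∈ Subgroup.centralizer (T : Set G), σ g = 1) ∧
      (∀ g, σ g = 1 → Odd (orderOf g) → g ∈ Subgroup.centralizer (T : Set G)) ∧
      vser σ S (d - 1) = ⊥ := by
  classical
  haveI : Fact (Nat.Prime 2) := ⟨Nat.prime_two⟩
  have hT : IsPGroup 2 T := hS.to_le hTS
  let A : ℕ → Subgroup G := fun k => (fun W => nextTerm W S d)^[k] T
  have hA0 : A 0 = T := rfl
  have hAs : ∀ k, A (k + 1) = nextTerm (A k) S d := fun k =>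
    Function.iterate_succ_apply' (fun W => nextTerm W S d) k T
  have hnorm : ∀ k, (A k).Normal := by
    intro k
    induction k with
    | zero => exact (inferInstance : T.Normal)
    | succ k ih => rw [hAs]; exact nextTerm_normal ih S d
  have hmono : ∀ k, A (k + 1) ≤ A k := fun k => hAs k ▸ nextTerm_le (hnorm k) S d
  have hAT : ∀ k, A k ≤ T := by
    intro k
    induction k with
    | zero => exact le_rfl
    | succ k ih => exact (hmono k).trans ih
  obtain ⟨L, hAL⟩ : ∃ L, A L = ⊥ := by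
    by_contra hcon
    push Not at hcon
    have hlt : ∀ k, A (k + 1) < A k := fun k => lt_of_le_of_ne (hmono k) fun h => hcon k (by
      haveI := hnorm k
      exact eq_bot_of_nextTerm_eq hH ρ hρ hO hcore ι hι S hS d hd hV (A k) ((hAT k).trans hTS)
        ((hAs k).symm.trans h))
    exact not_injective_infinite_finite A (strictAnti_nat_of_succ_lt hlt).injective
  obtain ⟨c, hc⟩ := exists_lcs_eq_bot T hT
  let B : ℕ → ℕ → Subgroup G := fun k l => (A k ⊓ lcs T l) ⊔ A (k + 1)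
  haveI hBn : ∀ k l, (B k l).Normal := fun k l => by
    haveI := hnorm k
    haveI := hnorm (k + 1)
    show ((A k ⊓ lcs T l) ⊔ A (k + 1)).Normal
    infer_instance
  have hB0 : ∀ k, B k 0 = A k := fun k => by
    show (A k ⊓ T) ⊔ A (k + 1) = A k
    rw [inf_eq_left.2 (hAT k), sup_eq_left.2 (hmono k)]
  have hBc : ∀ k, B k c = A (k + 1) := fun k => by
    show (A k ⊓ lcs T c) ⊔ A (k + 1) = A (k + 1)
    rw [hc, inf_bot_eq, bot_sup_eq]
  have hBle : ∀ k l, B k l ≤ A k := fun k l => sup_le inf_le_left (hmono k)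
  have hsq : ∀ k, ∀ t ∈ A k, t ^ 2 ∈ A (k + 1) := fun k t ht =>
    hAs k ▸ Subgroup.mem_sup_left (frat_sq (hT.to_le (hAT k)) ht)
  have hBsq : ∀ k l, ∀ t ∈ B k l, t ^ 2 ∈ B k (l + 1) := fun k l t ht =>
    Subgroup.mem_sup_right (hsq k t (hBle k l ht))
  have hBmono : ∀ k l, B k (l + 1) ≤ B k l := fun k l => by
    refine sup_le_sup_right (inf_le_inf_left _ ?_) _
    show (⁅lcs T l, T⁆ : Subgroup G) ≤ lcs T l
    exact Subgroup.commutator_le_left (lcs T l) T
  have hBT : ∀ k l, ∀ g ∈ T, ∀ y ∈ B k l, ⁅g, y⁆ ∈ B k (l + 1) := by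
    intro k l g hg
    haveI := hnorm k
    haveI := hnorm (k + 1)
    intro y hy
    rw [show B k l = (A k ⊓ lcs T l) ⊔ A (k + 1) from rfl, Subgroup.mem_sup_of_normal_right] at hy
    obtain ⟨u, hu, w, hw, rfl⟩ := hy
    have h1 : ⁅g, w⁆ ∈ A (k + 1) :=
      Subgroup.commutator_le_right ⊤ (A (k + 1)) (Subgroup.commutator_mem_commutator trivial hw)
    have h2 : ⁅g, u⁆ ∈ A k ⊓ lcs T (l + 1) := by
      refine ⟨Subgroup.commutator_le_right ⊤ (A k) (Subgroup.commutator_mem_commutator trivial hu.1),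
        ?_⟩
      show ⁅g, u⁆ ∈ (⁅lcs T l, T⁆ : Subgroup G)
      rw [Subgroup.commutator_comm]
      exact Subgroup.commutator_mem_commutator hg hu.2
    have e : ⁅g, u * w⁆ = ⁅g, u⁆ * (u * ⁅g, w⁆ * u⁻¹) := by
      simp only [commutatorElement_def]; group
    rw [e]
    exact mul_mem (Subgroup.mem_sup_left h2)
      (Subgroup.mem_sup_right ((hnorm (k + 1)).conj_mem _ h1 u))
  choose n ρ' hρ' hρser using fun i : Fin L × Fin c =>
    exists_section_module (B i.1 i.2) (B i.1 (i.2.val + 1)) (hBmono _ _) (hBsq i.1 i.2)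
  let M := ∀ i : Fin L × Fin c, Fin (n i) → AlgebraicClosure (ZMod 2)
  let σ : G →* Module.End (AlgebraicClosure (ZMod 2)) M :=
    { toFun := fun g => LinearMap.pi fun i => (ρ' i g).comp (LinearMap.proj i)
      map_one' := LinearMap.ext fun x => funext fun i => by
        show (ρ' i 1) (x i) = x i
        rw [map_one]; rfl
      map_mul' := fun g h => LinearMap.ext fun x => funext fun i => by
        show (ρ' i (g * h)) (x i) = (ρ' i g) ((ρ' i h) (x i))
        rw [map_mul]; rfl }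
  have hσ : ∀ g, σ g = 1 ↔ ∀ i, ρ' i g = 1 := fun g => by
    constructor
    · intro h i
      refine LinearMap.ext fun v => ?_
      have h2 : (ρ' i g) ((Pi.single i v : M) i) = (Pi.single i v : M) i :=
        congrFun (DFunLike.congr_fun h (Pi.single i v : M)) i
      rw [Pi.single_eq_same] at h2
      exact h2
    · intro h
      exact LinearMap.ext fun x => funext fun i => by
        show (ρ' i g) (x i) = x i
        rw [h i]; rfl
  refine ⟨M, inferInstance, inferInstance, inferInstance, σ,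
    fun g hg => (hσ g).2 fun i => (hρ' i g).2 (hBT i.1 i.2 g hg),
    fun g hg => (hσ g).2 fun i => (hρ' i g).2 fun y hy => ?_, fun g hg hodd => ?_, ?_⟩
  · rw [commutatorElement_eq_one_iff_mul_comm.2
      (Subgroup.mem_centralizer_iff.1 hg y (hAT _ (hBle _ _ hy))).symm]
    exact one_mem _
  · have key : ∀ e k, k + e = L → ∀ y ∈ A k, Commute g y := by
      intro e
      induction e with
      | zero =>
        intro k hk y hy
        rw [show k = L from hk, hAL, Subgroup.mem_bot] at hy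
        rw [hy]; exact Commute.one_right g
      | succ e ih =>
        intro k hk
        have inner : ∀ e' l, l + e' = c → ∀ y ∈ B k l, Commute g y := by
          intro e'
          induction e' with
          | zero =>
            intro l hl y hy
            rw [show l = c from hl, hBc] at hy
            exact ih (k + 1) (by omega) y hy
          | succ e' ih' =>
            intro l hl y hy
            have hcomm := (hρ' (⟨k, by omega⟩, ⟨l, by omega⟩) g).1 ((hσ g).1 hg _) y hy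
            have hx : y⁻¹ * (g * y * g⁻¹) ∈ B k (l + 1) := by
              have := (hBn k (l + 1)).conj_mem _ hcomm y⁻¹
              rw [show y⁻¹ * ⁅g, y⁆ * y⁻¹⁻¹ = y⁻¹ * (g * y * g⁻¹) by
                rw [commutatorElement_def]; group] at this
              exact this
            obtain ⟨a, ha⟩ := hT ⟨_, hAT k (hBle k (l + 1) hx)⟩
            exact commute_of_section hodd ⟨a, congrArg Subtype.val ha⟩
              (ih' (l + 1) (by omega) _ hx) (by group)
        intro y hy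
        exact inner c 0 (zero_add c) y (by rw [hB0]; exact hy)
    exact Subgroup.mem_centralizer_iff.2 fun y hy =>
      (key L 0 (zero_add L) y (hA0.symm ▸ hy)).eq.symm
  · rw [eq_bot_iff]
    refine le_trans (vser_pi ρ' σ (fun g x i => rfl) S (d - 1)) fun x hx => ?_
    rw [Submodule.mem_bot]
    funext i
    have h := hρser i (B i.1 i.2) S inferInstance le_rfl le_sup_left
      ((hBle _ _).trans ((hAT _).trans hTS)) (d - 2) (fun y hy a ha => ?_)
    · have hxi : x i ∈ vser (ρ' i) S (d - 1) := hx i trivial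
      rw [show d - 1 = d - 2 + 1 by omega, h, Submodule.mem_bot] at hxi
      exact hxi
    · rw [← commutatorElement_inv y a]
      refine inv_mem (Subgroup.mem_sup_right ?_)
      rw [hAs]
      exact Subgroup.mem_sup_right (Subgroup.subset_normalClosure
        ⟨y, ⟨hBle _ _ hy.1, hy.2⟩, a, ha, rfl⟩)

end H51.Derived
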