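import Cfsg.Agent.H51.Derived.Perm
import Cfsg.Agent.H28.TwoLength.Centralize
import Cfsg.Agent.H51.Bryu.LeafGroup

/-!
The local theorem transported to one system of eigenvalues of a critical subgroup.
-/

set_option autoImplicit false
set_option linter.style.haveILetI false
set_option linter.unusedSectionVars false

namespace H51.Derived

open Module H28.SG
open H28.TwoLength (conj_mem mem_norm exists_section odd_card exists_plane subConj)
open H51.Bryu (PairingForm)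
open H12.DL (Heis DerivedChain)
open scoped commutatorElement

universe u v w u₀

/-- The local theorem, in the form used here. -/
def CoreProp (r : ℕ) [Fact r.Prime] (K : Type v) [Field K] : Prop :=
  ∀ (n : ℕ) (E : Type w) [AddCommGroup E] [Module K E] [FiniteDimensional K E] [Nontrivial E]
    (G : Type u₀) [Group G] [Finite G], IsPGroup 2 G →
    ∀ (H : Heis r K (Fin n → ZMod r) E G) (e : ℕ), 1 ≤ e → ∀ V, DerivedChain H.op e V →
    (∀ x ∈ derivedSeries G (e - 1), ∀ x' ∈ derivedSeries G (e - 1), H.act x ≠ 1 → H.act x' ≠ 1 →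
      H.act x = H.act x') ∧ (e = 1 → ∀ x, H.act x = 1) ∧
      (2 ≤ e → ∀ y ∈ derivedSeries G (e - 2), ∀ a ∈ derivedSeries G (e - 2), H.act y ^ 2 = 1 →
        H.act ⁅y, a⁆ = 1)

variable {H : Type u} [Group H] [Finite H]
variable {K : Type v} [Field K] [CharP K 2] [IsAlgClosed K]
variable {W : Type w} [AddCommGroup W] [Module K W] [FiniteDimensional K W]

/-- Trivial action on the section of a system of eigenvalues. -/
def TrivOn (C : Subgroup H) (μ : H → K) (t : H) : Prop :=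
  ∀ x ∈ C, ∀ y ∈ C, μ ⁅x⁻¹ * (t * x * t⁻¹), y⁆ = 1

theorem system_facts (ρ : H →* Module.End K W) {r : ℕ}
    [Fact r.Prime] (hr2 : r ≠ 2) (hcore : CoreProp.{v, w, u₀} r K)
    (C Z : Subgroup H) [C.Normal] [Z.Normal] (hC : IsPGroup r C)
    (hcom : ∀ x ∈ C, ∀ y ∈ C, ⁅x, y⁆ ∈ Z) (hZC : Z ≤ C)
    (hZc : Z ≤ Subgroup.centralizer (C : Set H)) (hpow : ∀ x ∈ C, x ^ r ∈ Z)
    (μ : H → K) {v : W} (hv : v ≠ 0) (hμ : ∀ c ∈ Z, ρ c v = μ c • v)
    {G : Type u₀} [Group G] [Finite G] (hG : IsPGroup 2 G) (ι : G →* H) (d : ℕ) (hd : 2 ≤ d)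
    (V : ℕ → Submodule K W) (hV : DerivedChain (ρ.comp ι) d V) :
    (∀ a ∈ derivedSeries G (d - 1), ∀ c ∈ Z, μ (ι a * c * (ι a)⁻¹) = μ c) ∧
      (∀ x ∈ derivedSeries G (d - 1), ∀ x' ∈ derivedSeries G (d - 1),
        ¬ TrivOn C μ (ι x) → ¬ TrivOn C μ (ι x') → ∀ c ∈ C, ∀ y ∈ C,
          μ ⁅(ι x * c * (ι x)⁻¹)⁻¹ * (ι x' * c * (ι x')⁻¹), y⁆ = 1) ∧
      ∀ y ∈ derivedSeries G (d - 2), ∀ a ∈ derivedSeries G (d - 2), y * y = 1 →
        TrivOn C μ (ι ⁅y, a⁆) := by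
  classical
  have hnC : ∀ g : H, g ∈ Subgroup.normalizer (C : Set H) := fun g => by
    rw [Subgroup.normalizer_eq_top]; trivial
  have hnZ : ∀ g : H, g ∈ Subgroup.normalizer (Z : Set H) := fun g => by
    rw [Subgroup.normalizer_eq_top]; trivial
  have hμmul : ∀ a ∈ Z, ∀ b ∈ Z, μ (a * b) = μ a * μ b := fun a ha b hb => by
    apply smul_left_injective K hv
    show μ (a * b) • v = (μ a * μ b) • v
    rw [← hμ _ (mul_mem ha hb), map_mul, Module.End.mul_apply, hμ b hb, map_smul, hμ a ha,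
      smul_smul, mul_comm]
  have hμ1 : μ 1 = 1 := by
    apply smul_left_injective K hv
    show μ 1 • v = (1 : K) • v
    rw [← hμ 1 (one_mem Z), map_one, one_smul]; rfl
  -- the first stage
  let F₁ : Z →* Module.End K W := ρ.comp Z.subtype
  let μ₁ : Z →* K :=
    { toFun := fun c => μ c
      map_one' := hμ1
      map_mul' := fun a b => hμmul a a.2 b b.2 }
  let σ₁ : G →* MulAut Z := (MulAut.conjNormal).comp ι
  haveI : Fintype Z := Fintype.ofFinite Z
  obtain ⟨i₁, hi₁, hfix₁, hinv₁, V₁, hV₁⟩ := exists_stage hG (odd_card hr2 (hC.to_le hZC)) F₁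
    (ρ.comp ι) σ₁ (fun g a => by
      show ρ (ι g) * ρ (a : H) = ρ (ι g * a * (ι g)⁻¹) * ρ (ι g)
      exact H28.TwoLength.rep_intertwine ρ _ _) hV hv (μ := μ₁) (fun c => hμ c c.2)
  let G₁ := derivedSeries G i₁
  let U := eigSpace (⇑F₁) (⇑μ₁)
  have hfix₁' : ∀ g ∈ G₁, ∀ c ∈ Z, μ (ι g * c * (ι g)⁻¹) = μ c := fun g hg c hc =>
    hfix₁ g hg ⟨c, hc⟩
  haveI : Nontrivial U := Submodule.nontrivial_iff_ne_bot.mpr
    ((Submodule.ne_bot_iff _).mpr ⟨v, mem_eigSpace.mpr fun c : Z => hμ c c.2, hv⟩)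
  have hcent : ∀ c ∈ Z, ∀ x ∈ C, Commute (ρ c) (ρ x) := fun c hc x hx =>
    (show Commute c x from (Subgroup.mem_centralizer_iff.mp (hZc hc) x hx).symm).map ρ
  have hUC : ∀ a : C, ∀ y ∈ U, ρ.comp C.subtype a y ∈ U := by
    intro a y hy
    change y ∈ eigSpace (⇑F₁) (⇑μ₁) at hy
    show _ ∈ eigSpace (⇑F₁) (⇑μ₁)
    rw [mem_eigSpace] at hy ⊢
    intro c
    show ρ (c : H) (ρ (a : H) y) = μ c • ρ (a : H) y
    rw [← Module.End.mul_apply, (hcent c c.2 a a.2).eq, Module.End.mul_apply]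
    rw [show ρ (c : H) y = μ c • y from hy c, map_smul]
  let ρU : C →* Module.End K U := subRep (ρ.comp C.subtype) U hUC
  -- the radical
  obtain ⟨M, hMC, hMmem, -⟩ := exists_plane ρ Fact.out hr2 C Z hC 1 0 (one_pow _) (hnC 1) (hnZ 1)
    (by
      haveI : CharP (Module.End K W) 2 := by
        haveI : Nontrivial W := ⟨v, 0, hv⟩
        exact charP_of_injective_algebraMap' K 2
      simp [CharTwo.two_eq_zero]) hcom hcent μ hv hμ
  have hcM : ∀ c ∈ Z, c ∈ M := fun c hc => (hMmem c (hZC hc)).mpr fun y hy => by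
    rw [show ⁅c, y⁆ = 1 from commutatorElement_eq_one_iff_commute.mpr
      (Subgroup.mem_centralizer_iff.mp (hZc hc) y hy).symm, hμ1]
  let Γ' : Subgroup H :=
    { carrier := {g | ∀ c ∈ Z, μ (g * c * g⁻¹) = μ c}
      one_mem' := fun c _ => by rw [one_mul, inv_one, mul_one]
      mul_mem' := fun {a b} ha hb c hc => by
        rw [show a * b * c * (a * b)⁻¹ = a * (b * c * b⁻¹) * a⁻¹ by group,
          ha _ (conj_mem (hnZ b) hc), hb c hc]
      inv_mem' := fun {a} ha c hc => by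
        have h := ha _ (conj_mem (hnZ a⁻¹) hc)
        rw [show a * (a⁻¹ * c * a⁻¹⁻¹) * a⁻¹ = c by group] at h
        exact h.symm }
  have hΓM : Γ' ≤ Subgroup.normalizer (M : Set H) := fun g hg => mem_norm fun x hx => by
    rw [hMmem _ (conj_mem (hnC g) (hMC hx))]
    intro y hy
    have hy' : g⁻¹ * y * g⁻¹⁻¹ ∈ C := conj_mem (hnC g⁻¹) hy
    rw [show ⁅g * x * g⁻¹, y⁆ = g * ⁅x, g⁻¹ * y * g⁻¹⁻¹⁆ * g⁻¹ by
      simp only [commutatorElement_def]; group, hg _ (hcom x (hMC hx) _ hy')]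
    exact (hMmem x (hMC hx)).mp hx _ hy'
  have hscal : ∀ c ∈ Z, ∀ y : U, ρ c (y : W) = μ c • (y : W) := fun c hc y =>
    mem_eigSpace.mp y.2 ⟨c, hc⟩
  have hρcomm : ∀ x y : C, ρU x * ρU y = μ ⁅(x : H), (y : H)⁆ • (ρU y * ρU x) := fun x y => by
    refine LinearMap.ext fun a => Subtype.ext ?_
    show ρ (x : H) (ρ (y : H) (a : W)) = μ ⁅(x : H), (y : H)⁆ • ρ (y : H) (ρ (x : H) (a : W))
    rw [← Module.End.mul_apply, ← map_mul,
      show (x : H) * y = ⁅(x : H), (y : H)⁆ * (y * x) by rw [commutatorElement_def]; group, map_mul,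
      Module.End.mul_apply, map_mul, Module.End.mul_apply]
    exact hscal _ (hcom _ x.2 _ y.2) ⟨_, hUC y _ (hUC x a a.2)⟩
  -- the second stage
  have hMU : ∀ a : M, ∀ y ∈ U, ρ.comp M.subtype a y ∈ U := fun a => hUC ⟨a, hMC a.2⟩
  let F₂ : M →* Module.End K U := subRep (ρ.comp M.subtype) U hMU
  have hF₂ : ∀ a : M, F₂ a = ρU ⟨a, hMC a.2⟩ := fun a => rfl
  have hMcomm : ∀ (a : M) (x : C), Commute (F₂ a) (ρU x) := fun a x => by
    show _ = _
    rw [hF₂, hρcomm, (hMmem _ (hMC a.2)).mp a.2 x x.2, one_smul]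
  obtain ⟨ν₀, u, -, hu, hν₀⟩ := exists_eig_mem (⇑F₂) (fun a b => hMcomm a ⟨b, hMC b.2⟩) ⊤
    top_ne_bot fun _ _ _ => trivial
  let ν : M →* K :=
    { toFun := ν₀
      map_one' := eig_one hν₀ hu
      map_mul' := eig_mul hν₀ hu }
  have hG₁M : ∀ g : G₁, ι g ∈ Subgroup.normalizer (M : Set H) := fun g => hΓM (hfix₁' g g.2)
  let σ₂ : G₁ →* MulAut M := MonoidHom.mk' (fun g => subConj M (ι g) (hG₁M g)) fun g h =>
    MulEquiv.ext fun x => Subtype.ext (by
      show ι ((g : G) * h) * x * (ι ((g : G) * h))⁻¹ =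
        ι g * (ι h * x * (ι h)⁻¹) * (ι g)⁻¹
      rw [map_mul]; group)
  let op₁ := subRep ((ρ.comp ι).comp G₁.subtype) U hinv₁
  haveI : Fintype M := Fintype.ofFinite M
  obtain ⟨i₂, hi₂, hfix₂, hinv₂, V₂, hV₂⟩ := exists_stage (hG.to_subgroup G₁)
    (odd_card hr2 (hC.to_le hMC)) F₂ op₁ σ₂ (fun g a => LinearMap.ext fun y => Subtype.ext (by
      show ρ (ι g) (ρ (a : H) (y : W)) = ρ (ι g * a * (ι g)⁻¹) (ρ (ι g) (y : W))
      rw [← Module.End.mul_apply, H28.TwoLength.rep_intertwine, Module.End.mul_apply]))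
    hV₁ hu (μ := ν) hν₀
  let G₂ := derivedSeries G₁ i₂
  let E := eigSpace (⇑F₂) (⇑ν)
  haveI : Nontrivial E := Submodule.nontrivial_iff_ne_bot.mpr
    ((Submodule.ne_bot_iff _).mpr ⟨u, mem_eigSpace.mpr hν₀, hu⟩)
  have hEC : ∀ a : C, ∀ y ∈ E, ρU a y ∈ E := by
    intro a y hy
    change y ∈ eigSpace (⇑F₂) (⇑ν) at hy
    show _ ∈ eigSpace (⇑F₂) (⇑ν)
    rw [mem_eigSpace] at hy ⊢
    intro c
    show F₂ c (ρU a y) = ν c • ρU a y
    rw [← Module.End.mul_apply, (hMcomm c a).eq, Module.End.mul_apply, hy c, map_smul]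
  let ρE : C →* Module.End K E := subRep ρU E hEC
  let op₂ := subRep (op₁.comp G₂.subtype) E hinv₂
  -- the section
  obtain ⟨n, act, dd, hsurj, hdmul, hd0, hact⟩ := exists_section C M Γ' (r := r)
    (fun x hx y hy => hcM _ (hcom x hx y hy)) hMC (fun x hx => hcM _ (hpow x hx))
    (fun g _ => hnC g) hΓM
  have hd1 : dd 1 = 0 := (hd0 1).mpr (one_mem M)
  have hdinv : ∀ x, dd x⁻¹ = - dd x := fun x => by
    rw [eq_neg_iff_add_eq_zero, ← hdmul, inv_mul_cancel, hd1]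
  have hdiv : ∀ x y : C, dd x = dd y → ((x⁻¹ * y : C) : H) ∈ M := fun x y h => by
    rw [← hd0, hdmul, ← h, hdinv, neg_add_cancel]
  let si : (Fin n → ZMod r) → C := fun a => if a = 0 then 1 else Function.surjInv hsurj a
  have hsi : ∀ a, dd (si a) = a := fun a => by
    show dd (if a = 0 then 1 else Function.surjInv hsurj a) = a
    split_ifs with h
    · rw [h, hd1]
    · exact Function.surjInv_eq hsurj a
  have hν : ∀ (m : H) (hm : m ∈ M), ρE ⟨m, hMC hm⟩ = ν ⟨m, hm⟩ • (1 : Module.End K E) :=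
    fun m hm => LinearMap.ext fun y => Subtype.ext (mem_eigSpace.mp y.2 ⟨m, hm⟩)
  have hν0 : ∀ m : M, ν m ≠ 0 := fun m => eig_ne_zero hν₀ hu m
  have hfac : ∀ x y : C, dd x = dd y → ∃ c : K, c ≠ 0 ∧ ρE y = c • ρE x := fun x y h => by
    refine ⟨ν ⟨_, hdiv x y h⟩, hν0 _, ?_⟩
    have h1 := hν _ (hdiv x y h)
    have h2 : y = x * ⟨((x⁻¹ * y : C) : H), hMC (hdiv x y h)⟩ :=
      Subtype.ext (by simp)
    conv_lhs => rw [h2]
    rw [map_mul, h1, mul_smul_comm, mul_one]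
  have hρEcomm : ∀ x y : C, ρE x * ρE y = μ ⁅(x : H), (y : H)⁆ • (ρE y * ρE x) := fun x y =>
    LinearMap.ext fun a => Subtype.ext (LinearMap.congr_fun (hρcomm x y) (a : U))
  obtain ⟨e₀, he₀⟩ := exists_ne (0 : E)
  have hunit : ∀ x y : C, ρE x (ρE y e₀) ≠ 0 := fun x y h => he₀ (by
    have h1 : ρE (y⁻¹ * x⁻¹) (ρE x (ρE y e₀)) = e₀ := by
      rw [← Module.End.mul_apply, ← Module.End.mul_apply, ← map_mul, ← map_mul]
      simp
    rw [h, map_zero] at h1
    exact h1.symm)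
  have hcl : ∀ {x y : C} {c c' : K}, c • (ρE x * ρE y) = c' • (ρE x * ρE y) → c = c' :=
    fun {x y c c'} h => smul_left_injective K (hunit x y) (LinearMap.congr_fun h e₀)
  let b : (Fin n → ZMod r) → (Fin n → ZMod r) → K := fun a a' => μ ⁅(si a : H), (si a' : H)⁆
  have hb : ∀ x y : C, b (dd x) (dd y) = μ ⁅(x : H), (y : H)⁆ := fun x y => by
    obtain ⟨c, hc0, hc⟩ := hfac x (si (dd x)) (hsi _).symm
    obtain ⟨c', hc0', hc'⟩ := hfac y (si (dd y)) (hsi _).symm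
    refine hcl (x := y) (y := x) ?_
    have h1 := hρEcomm (si (dd x)) (si (dd y))
    rw [hc, hc', smul_mul_smul_comm, smul_mul_smul_comm, hρEcomm x y, smul_smul, smul_smul] at h1
    show b (dd x) (dd y) • _ = _
    apply smul_right_injective (Module.End K E) (mul_ne_zero hc0 hc0')
    show (c * c') • b (dd x) (dd y) • (ρE y * ρE x) =
      (c * c') • μ ⁅(x : H), (y : H)⁆ • (ρE y * ρE x)
    rw [smul_smul, smul_smul, h1]
    congr 1
    show c * c' * μ _ = μ _ * (c' * c)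
    ring
  have hskew : ∀ x y : C, μ ⁅(y : H), (x : H)⁆ * μ ⁅(x : H), (y : H)⁆ = 1 := fun x y => by
    rw [← hμmul _ (hcom _ y.2 _ x.2) _ (hcom _ x.2 _ y.2), ← commutatorElement_inv (x : H) (y : H),
      inv_mul_cancel, hμ1]
  have hl : ∀ x x' y : C,
      μ ⁅((x * x' : C) : H), (y : H)⁆ = μ ⁅(x : H), (y : H)⁆ * μ ⁅(x' : H), (y : H)⁆ := by
    intro x x' y
    have hcz : (x : H) * ⁅(x' : H), (y : H)⁆ * (x : H)⁻¹ = ⁅(x' : H), (y : H)⁆ := by
      rw [Subgroup.mem_centralizer_iff.mp (hZc (hcom _ x'.2 _ y.2)) x x.2, mul_inv_cancel_right]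
    rw [Subgroup.coe_mul, show ⁅(x : H) * x', (y : H)⁆ = x * ⁅(x' : H), (y : H)⁆ * (x : H)⁻¹ *
      ⁅(x : H), (y : H)⁆ by simp only [commutatorElement_def]; group,
      hcz, hμmul _ (hcom _ x'.2 _ y.2) _ (hcom _ x.2 _ y.2), mul_comm]
  let F : PairingForm r K (Fin n → ZMod r) :=
    { b := b
      add_left := fun a a' a'' => by
        rw [← hsi a, ← hsi a', ← hsi a'', ← hdmul, hb, hb, hb, hl]
      add_right := fun a a' a'' => by
        rw [← hsi a, ← hsi a', ← hsi a'', ← hdmul, hb, hb, hb]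
        have h1 := hskew (si a' * si a'') (si a)
        rw [hl] at h1
        have h2 : (μ ⁅(si a : H), (si a' : H)⁆ * μ ⁅(si a : H), (si a'' : H)⁆) *
            (μ ⁅(si a' : H), (si a : H)⁆ * μ ⁅(si a'' : H), (si a : H)⁆) = 1 := by
          rw [mul_mul_mul_comm, hskew (si a') (si a), hskew (si a'') (si a), one_mul]
        exact mul_right_cancel₀ (right_ne_zero_of_mul_eq_one h2) (h1.trans h2.symm)
      self := fun a => by
        show μ ⁅(si a : H), (si a : H)⁆ = 1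
        rw [commutatorElement_self, hμ1]
      ne_zero := fun a a' => right_ne_zero_of_mul_eq_one (hskew (si a) (si a'))
      nondeg := fun a ha => by
        rw [← hsi a, hd0]
        refine (hMmem _ (si a).2).mpr fun y hy => ?_
        have := ha (dd ⟨y, hy⟩)
        rwa [← hsi a, hb] at this }
  let gle := LinearMap.GeneralLinearGroup.generalLinearEquiv (ZMod r) (Fin n → ZMod r)
  let jΓ : G₂ →* Γ' :=
    ((ι.comp G₁.subtype).comp G₂.subtype).codRestrict Γ' fun g => hfix₁' _ (g : G₁).2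
  let Hs : Heis r K (Fin n → ZMod r) E G₂ :=
    { F := F
      eps := fun a => ρE (si a)
      eps_zero := by
        show ρE (if (0 : Fin n → ZMod r) = 0 then 1 else _) = 1
        rw [if_pos rfl, map_one]
      eps_mul := fun a a' => by
        obtain ⟨c, hc0, hc⟩ := hfac (si (a + a')) (si a * si a') (by rw [hdmul, hsi, hsi, hsi])
        exact ⟨c, hc0, by rw [← map_mul, hc]⟩
      eps_comm := fun a a' => hρEcomm (si a) (si a')
      act := gle.toMonoidHom.comp (act.toHomUnits.comp jΓ)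
      act_iso := fun g a a' => by
        show b (act (jΓ g) a) (act (jΓ g) a') = b a a'
        rw [← hsi a, ← hsi a', hact, hact, hb, hb]
        set z : H := ι ((g : G₁) : G) with hz
        show μ ⁅z * (si a : H) * z⁻¹, z * (si a' : H) * z⁻¹⁆ = _
        rw [show ⁅z * (si a : H) * z⁻¹, z * (si a' : H) * z⁻¹⁆ =
          z * ⁅(si a : H), (si a' : H)⁆ * z⁻¹ by simp only [commutatorElement_def]; group]
        exact hfix₁' _ (g : G₁).2 _ (hcom _ (si a).2 _ (si a').2)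
      op := op₂
      op_eps := fun g a => by
        set z : H := ι ((g : G₁) : G) with hz
        set x : C := ⟨z * si a * z⁻¹, conj_mem (hnC z) (si a).2⟩
        obtain ⟨c, -, hc⟩ := hfac (si (act (jΓ g) a)) x (by
          rw [hsi]
          conv_lhs => rw [← hsi a, hact]
          rfl)
        refine ⟨c, ?_⟩
        have h1 : op₂ g * ρE (si a) = ρE x * op₂ g :=
          LinearMap.ext fun y => Subtype.ext (Subtype.ext (by
            show ρ z (ρ (si a : H) (((y : U) : W))) = ρ (z * si a * z⁻¹) (ρ z ((y : U) : W))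
            rw [← Module.End.mul_apply, H28.TwoLength.rep_intertwine, Module.End.mul_apply]))
        rw [h1, hc, smul_mul_assoc]
        rfl }
  obtain ⟨hc1, hc2, hc3⟩ := hcore n E G₂ ((hG.to_subgroup G₁).to_subgroup G₂) Hs (d - i₁ - i₂)
    (by omega) V₂ hV₂
  -- translation
  have hle₁ : ∀ {j x}, i₁ ≤ j → x ∈ derivedSeries G j → x ∈ G₁ :=
    fun hj hx => derivedSeries_antitone G hj hx
  have hmem : ∀ (j : ℕ) (x : G), x ∈ derivedSeries G j → i₁ + i₂ ≤ j →
      ∃ y : G₂, ((y : G₁) : G) = x ∧ y ∈ derivedSeries G₂ (j - i₁ - i₂) := by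
    intro j x hx hj
    have h1 : (⟨x, hle₁ (by omega) hx⟩ : G₁) ∈ derivedSeries G₁ (j - i₁) := by
      rw [mem_derived_derived, show i₁ + (j - i₁) = j by omega]; exact hx
    refine ⟨⟨⟨x, hle₁ (by omega) hx⟩, derivedSeries_antitone G₁ (by omega) h1⟩, rfl, ?_⟩
    rw [mem_derived_derived, show i₂ + (j - i₁ - i₂) = j - i₁ by omega]
    exact h1
  have hactd : ∀ (y : G₂) (x : C), Hs.act y (dd x) =
      dd ⟨ι ((y : G₁) : G) * x * (ι ((y : G₁) : G))⁻¹, conj_mem (hnC _) x.2⟩ := fun y x =>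
    hact (jΓ y) x
  have htriv : ∀ y : G₂, Hs.act y = 1 → TrivOn C μ (ι ((y : G₁) : G)) := by
    intro y hy x hx c hc
    have h1 := hactd y ⟨x, hx⟩
    rw [hy] at h1
    exact (hMmem _ (mul_mem (inv_mem hx) (conj_mem (hnC _) hx))).mp (hdiv _ _ h1) c hc
  refine ⟨fun a ha c hc => hfix₁' a (hle₁ (by omega) ha) c hc, fun x hx x' hx' hnx hnx' c hc y hy => ?_,
    fun y hy a ha hyy => ?_⟩
  · obtain ⟨x₂, rfl, hx₂⟩ := hmem (d - 1) x hx (by omega)
    obtain ⟨x₂', rfl, hx₂'⟩ := hmem (d - 1) x' hx' (by omega)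
    rw [show d - 1 - i₁ - i₂ = d - i₁ - i₂ - 1 by omega] at hx₂ hx₂'
    have h := hc1 x₂ hx₂ x₂' hx₂' (fun h => hnx (htriv _ h)) (fun h => hnx' (htriv _ h))
    have h1 := (hactd x₂ ⟨c, hc⟩).symm.trans ((LinearEquiv.congr_fun h _).trans (hactd x₂' ⟨c, hc⟩))
    exact (hMmem _ (mul_mem (inv_mem (conj_mem (hnC _) hc)) (conj_mem (hnC _) hc))).mp
      (hdiv _ _ h1) y hy
  · rcases Nat.lt_or_ge (d - i₁ - i₂) 2 with he | he
    · have hya : ⁅y, a⁆ ∈ derivedSeries G (d - 1) := by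
        rw [show d - 1 = d - 2 + 1 by omega, derivedSeries_succ]
        exact Subgroup.commutator_mem_commutator hy ha
      obtain ⟨x₂, hx₂e, -⟩ := hmem (d - 1) _ hya (by omega)
      have := htriv x₂ (hc2 (by omega) x₂)
      rwa [hx₂e] at this
    · obtain ⟨y₂, rfl, hy₂⟩ := hmem (d - 2) y hy (by omega)
      obtain ⟨a₂, rfl, ha₂⟩ := hmem (d - 2) a ha (by omega)
      rw [show d - 2 - i₁ - i₂ = d - i₁ - i₂ - 2 by omega] at hy₂ ha₂
      have hy2 : y₂ * y₂ = 1 := Subtype.ext (Subtype.ext hyy)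
      have := htriv _ (hc3 he y₂ hy₂ a₂ ha₂ (by rw [sq, ← map_mul, hy2, map_one]))
      exact this

end H51.Derived
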